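import Cfsg.Agent.Lib.SmallSimple.Orders3640.Tools

/-!
# Orders excluded by fixed points: 1560, 1620, 1680, 1716, 1980, 2160, 3024, 3240, 3360, 3432
-/

set_option autoImplicit false
set_option linter.style.haveILetI false
set_option maxRecDepth 100000

namespace Cfsg.Agent.SmallSimple.Orders3640

open Subgroup MulAction Cfsg.Agent.SmallSimple.Orders6232

variable {G : Type*} [Group G] [Finite G] [IsSimpleGroup G]

theorem ne_1716 : Nat.card G ≠ 1716 := by
  intro h
  have hG : ¬ IsMulCommutative G := Basic.not_comm_of_not_prime (by rw [h]; norm_num)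
  haveI : Fact (Nat.Prime 3) := ⟨by norm_num⟩
  obtain ⟨P, n, e, k, hP, hn, hk, hC, hN, hnm, hem, hpk, hO⟩ :=
    data (p := 3) hG (by norm_num) h (by norm_num) (by norm_num)
  have key : ∀ n ∈ (1716 / 3).divisors, ∀ e ∈ (3 - 1).divisors, Opt 1716 3 n e →
      n = 286 ∧ e = 2 := by decide +kernel
  obtain ⟨rfl, rfl⟩ := key n hnm e hem hO
  norm_num at hk
  subst hk
  exact false_of_equation hG (by norm_num) h (by norm_num) P hP hC hN (by decide +kernel)

theorem ne_3432 : Nat.card G ≠ 3432 := by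
  intro h
  have hG : ¬ IsMulCommutative G := Basic.not_comm_of_not_prime (by rw [h]; norm_num)
  haveI : Fact (Nat.Prime 11) := ⟨by norm_num⟩
  haveI : Fact (Nat.Prime 2) := ⟨Nat.prime_two⟩
  obtain ⟨P, n, e, k, hP, hn, hk, hC, hN, hnm, hem, hpk, hO⟩ :=
    data (p := 11) hG (by norm_num) h (by norm_num) (by norm_num)
  have key : ∀ n ∈ (3432 / 11).divisors, ∀ e ∈ (11 - 1).divisors, Opt 3432 11 n e →
      n = 78 ∧ e = 2 := by decide +kernel
  obtain ⟨rfl, rfl⟩ := key n hnm e hem hO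
  norm_num at hk
  subst hk
  exact false_of_facts hG 2 (by norm_num) h P hP hn hC hN (by norm_num) dvd_rfl (by decide +kernel)

theorem ne_1560 : Nat.card G ≠ 1560 := by
  intro h
  have hG : ¬ IsMulCommutative G := Basic.not_comm_of_not_prime (by rw [h]; norm_num)
  haveI : Fact (Nat.Prime 5) := ⟨by norm_num⟩
  haveI : Fact (Nat.Prime 3) := ⟨by norm_num⟩
  obtain ⟨P, n, e, k, hP, hn, hk, hC, hN, hnm, hem, hpk, hO⟩ :=
    data (p := 5) hG (by norm_num) h (by norm_num) (by norm_num)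
  have key : ∀ n ∈ (1560 / 5).divisors, ∀ e ∈ (5 - 1).divisors, Opt 1560 5 n e →
      (n = 26 ∧ e = 2) ∨ (n = 26 ∧ e = 4) ∨ (n = 156 ∧ e = 2) := by decide +kernel
  rcases key n hnm e hem hO with ⟨rfl, rfl⟩ | ⟨rfl, rfl⟩ | ⟨rfl, rfl⟩ <;> norm_num at hk <;> subst hk
  · exact false_of_facts hG 3 (by norm_num) h P hP hn hC hN (by norm_num) (by norm_num) (by decide +kernel)
  · exact false_of_facts hG 3 (by norm_num) h P hP hn hC hN (by norm_num) dvd_rfl (by decide +kernel)
  · exact false_of_equation hG (by norm_num) h (by norm_num) P hP hC hN (by decide +kernel)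

theorem ne_1620 : Nat.card G ≠ 1620 := by
  intro h
  classical
  have hG : ¬ IsMulCommutative G := Basic.not_comm_of_not_prime (by rw [h]; norm_num)
  haveI : Fact (Nat.Prime 5) := ⟨by norm_num⟩
  haveI : Fact (Nat.Prime 2) := ⟨Nat.prime_two⟩
  obtain ⟨P, n, e, k, hP, hn, hk, hC, hN, hnm, hem, hpk, hO⟩ :=
    data (p := 5) hG (by norm_num) h (by norm_num) (by norm_num)
  have key : ∀ n ∈ (1620 / 5).divisors, ∀ e ∈ (5 - 1).divisors, Opt 1620 5 n e →
      (n = 81 ∧ e = 2) ∨ (n = 81 ∧ e = 4) := by decide +kernel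
  rcases key n hnm e hem hO with ⟨rfl, rfl⟩ | ⟨rfl, rfl⟩ <;> norm_num at hk <;> subst hk
  · exact false_of_central hG (a := 2) (by norm_num) h P hP hn hC hN (by norm_num) dvd_rfl
      (by decide +kernel)
  -- cyclic Sylow `2`-subgroups
  obtain ⟨⟨u, hu⟩, huo⟩ := exists_prime_orderOf_dvd_card'
    (G := normalizer ((P : Subgroup G) : Set G)) 2 (hN.symm ▸ by norm_num)
  rw [Subgroup.orderOf_mk] at huo
  obtain ⟨T, hTN, -⟩ := exists_sylow_le_mem _ (by
    have := card_mul_index (normalizer ((P : Subgroup G) : Set G))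
    rw [hN, h] at this
    omega) hu huo
  have hT : Nat.card (T : Subgroup G) = 4 := by
    rw [Basic.card_sylow_eq_pow (a := 2) (m := 405) (by rw [h]; norm_num) (by norm_num) T]; norm_num
  haveI : IsCyclic (T : Subgroup G) := isCyclic_of_le_normalizer P hP hTN
    (by rw [hT, hC]; norm_num)
  obtain ⟨H, hH⟩ := Cfsg.Agent.Involutions.ThompsonTransfer.exists_index_two_of_isCyclic_sylow
    (h ▸ by decide) T inferInstance
  have := Basic.two_mul_card_dvd_factorial hG H (fun e => by
    rw [e, index_top] at hH; norm_num at hH)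
  rw [hH, h] at this
  norm_num at this

theorem ne_1680 : Nat.card G ≠ 1680 := by
  intro h
  have hG : ¬ IsMulCommutative G := Basic.not_comm_of_not_prime (by rw [h]; norm_num)
  haveI : Fact (Nat.Prime 5) := ⟨by norm_num⟩
  haveI : Fact (Nat.Prime 3) := ⟨by norm_num⟩
  obtain ⟨P, n, e, k, hP, hn, hk, hC, hN, hnm, hem, hpk, hO⟩ :=
    data (p := 5) hG (by norm_num) h (by norm_num) (by norm_num)
  have key : ∀ n ∈ (1680 / 5).divisors, ∀ e ∈ (5 - 1).divisors, Opt 1680 5 n e →
      (n = 21 ∧ e = 2) ∨ (n = 21 ∧ e = 4) ∨ (n = 56 ∧ e = 2) := by decide +kernel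
  rcases key n hnm e hem hO with ⟨rfl, rfl⟩ | ⟨rfl, rfl⟩ | ⟨rfl, rfl⟩ <;> norm_num at hk <;> subst hk
  · exact false_of_central hG (a := 4) (by norm_num) h P hP hn hC hN (by norm_num) (by norm_num)
      (by decide +kernel)
  · exact false_of_central hG (a := 4) (by norm_num) h P hP hn hC hN (by norm_num) (by norm_num)
      (by decide +kernel)
  · exact false_of_facts hG 3 (by norm_num) h P hP hn hC hN (by norm_num) dvd_rfl (by decide +kernel)

theorem ne_1980 : Nat.card G ≠ 1980 := by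
  intro h
  have hG : ¬ IsMulCommutative G := Basic.not_comm_of_not_prime (by rw [h]; norm_num)
  haveI : Fact (Nat.Prime 11) := ⟨by norm_num⟩
  obtain ⟨P, n, e, k, hP, hn, hk, hC, hN, hnm, hem, hpk, hO⟩ :=
    data (p := 11) hG (by norm_num) h (by norm_num) (by norm_num)
  have key : ∀ n ∈ (1980 / 11).divisors, ∀ e ∈ (11 - 1).divisors, Opt 1980 11 n e →
      n = 45 ∧ e = 2 := by decide +kernel
  obtain ⟨rfl, rfl⟩ := key n hnm e hem hO
  norm_num at hk
  subst hk
  exact false_of_central hG (a := 2) (by norm_num) h P hP hn hC hN (by norm_num) dvd_rfl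
    (by decide +kernel)

theorem ne_3024 : Nat.card G ≠ 3024 := by
  intro h
  have hG : ¬ IsMulCommutative G := Basic.not_comm_of_not_prime (by rw [h]; norm_num)
  haveI : Fact (Nat.Prime 7) := ⟨by norm_num⟩
  haveI : Fact (Nat.Prime 2) := ⟨Nat.prime_two⟩
  obtain ⟨P, n, e, k, hP, hn, hk, hC, hN, hnm, hem, hpk, hO⟩ :=
    data (p := 7) hG (by norm_num) h (by norm_num) (by norm_num)
  have key : ∀ n ∈ (3024 / 7).divisors, ∀ e ∈ (7 - 1).divisors, Opt 3024 7 n e →
      n = 36 ∧ (e = 2 ∨ e = 3 ∨ e = 6) := by decide +kernel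
  obtain ⟨rfl, rfl | rfl | rfl⟩ := key n hnm e hem hO <;> norm_num at hk <;> subst hk
  · exact false_of_facts hG 2 (by norm_num) h P hP hn hC hN (by norm_num) (by norm_num) (by decide +kernel)
  · exact Centralize.false_of_two_sylows hG (by norm_num) (q := 2) (a := 2) (by norm_num) h hn
      (by norm_num) P hP hC (by norm_num) (by norm_num) (by decide +kernel)
  · exact false_of_facts hG 2 (by norm_num) h P hP hn hC hN (by norm_num) (by norm_num) (by decide +kernel)

/-- The twelve-conjugate case. -/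
theorem false_of_twelve [Fact (Nat.Prime 5)] (hG : ¬ IsMulCommutative G) {N k e : ℕ} (h : Nat.card G = N)
    (P : Sylow 5 G) (hP : Nat.card (P : Subgroup G) = 5) (hn : Nat.card (Sylow 5 G) = 36)
    (hC : Nat.card (centralizer ((P : Subgroup G) : Set G)) = 5 * k)
    (hN : Nat.card (normalizer ((P : Subgroup G) : Set G)) = 5 * (k * e)) (hk : k = 3 ∨ k = 9)
    (he : ¬ 3 ∣ e)
    (key : ∀ f ∈ List.range 36, ∀ c ∈ N.divisors, ∀ i ∈ (5 * (k * e)).divisors,
      Conds N 5 36 e k 3 (5 * k) f c i → f ≤ c / i → N / c = 12 ∧ f * (5 * (k * e)) / c ≤ 2) :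
    False := by
  classical
  haveI : Fact (Nat.Prime 3) := ⟨Nat.prime_three⟩
  haveI : IsCyclic (P : Subgroup G) := isCyclic_of_prime_card hP
  set C := centralizer ((P : Subgroup G) : Set G) with hCdef
  -- a Sylow `3`-subgroup of `C(P)` is abelian, so `C(P) ≤ C(w)` for each of its elements
  obtain ⟨b, hb, hb0, hb2⟩ : ∃ b, k = 3 ^ b ∧ 0 < b ∧ b ≤ 2 := by
    rcases hk with rfl | rfl
    exacts [⟨1, rfl, by norm_num, by norm_num⟩, ⟨2, rfl, by norm_num, le_rfl⟩]
  obtain ⟨R⟩ : Nonempty (Sylow 3 C) := inferInstance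
  have hR : Nat.card (R : Subgroup C) = 3 ^ b :=
    Basic.card_sylow_eq_pow (a := b) (m := 5) (by rw [hC, hb, mul_comm]) (by norm_num) R
  haveI hRc : IsMulCommutative (R : Subgroup C) := by
    interval_cases b
    · haveI := isCyclic_of_prime_card (p := 3) (by rw [hR, pow_one] : Nat.card (R : Subgroup C) = 3)
      infer_instance
    · exact IsPGroup.isMulCommutative_of_card_eq_prime_sq (p := 3) hR
  obtain ⟨⟨⟨w, hw⟩, hwR⟩, hwo⟩ := exists_prime_orderOf_dvd_card' (G := (R : Subgroup C)) 3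
    (hR ▸ dvd_pow_self 3 hb0.ne')
  rw [Subgroup.orderOf_mk, Subgroup.orderOf_mk] at hwo
  have hCw : C ≤ centralizer ({w} : Set G) := by
    have hsup : (P : Subgroup G) ⊔ (R : Subgroup C).map C.subtype = C := by
      refine eq_of_le_of_card_ge (sup_le (le_centralizer _) (map_subtype_le _)) ?_
      rw [hC, hb]
      refine Nat.le_of_dvd Nat.card_pos ((Nat.Coprime.pow_right b (by norm_num : Nat.Coprime 5 3))
        |>.mul_dvd_of_dvd_of_dvd (hP.symm.dvd.trans (card_dvd_of_le le_sup_left))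
        (Dvd.dvd.trans ?_ (card_dvd_of_le le_sup_right)))
      rw [card_map_of_injective C.subtype_injective, hR]
    rw [← hsup]
    refine sup_le (fun y hy => mem_centralizer_singleton_iff.2 (mem_centralizer_iff.1 hw y hy)) ?_
    rintro _ ⟨z, hz, rfl⟩
    exact mem_centralizer_singleton_iff.2 (congrArg (fun y => ((y : (R : Subgroup C)) : C).1)
      (mul_comm' (⟨z, hz⟩ : (R : Subgroup C)) ⟨⟨w, hw⟩, hwR⟩))
  obtain ⟨f, c, i, hf, hc, hi, hfe, hce, hie, hcond⟩ :=
    facts hG (by norm_num) h P hP hn hC hN (r := 3) (a := 5 * k) (by norm_num) hw hwo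
      (hC.symm.dvd.trans (card_dvd_of_le (le_inf hCw (centralizer_le_normalizer _))))
  obtain ⟨x, hx, hx1, hxo⟩ := Order2520.exists_gen hP
  have hxw : Commute x w := mem_centralizer_iff.1 hw x hx
  obtain ⟨hidx, hj⟩ := key f hf c hc i hi hcond (by
    have hmul := Order2520.card_inf_mul (normalizer ((P : Subgroup G) : Set G))
      (centralizer ({w} : Set G))
    rw [hfe, hce, hie, ← hmul, Nat.mul_div_cancel_left _ Nat.card_pos]
    exact fix_le_relIndex P hw fun y hy hyN => forced P hP hC hN (by norm_num) hwo he hy hyN)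
  have hfix := FixedPoints.card_fixed_mul P w
  rw [hN, ← hfe, ← hce] at hfix
  have hcl := Basic.card_centralizer_mul_card_class w
  rw [h, ← hce] at hcl
  have hcpos : 0 < c := hce ▸ Nat.card_pos
  refine false_of_class_twelve hG hxo hwo hxw ?_ ?_
  · rw [← hidx, ← hcl, Nat.mul_div_cancel_left _ hcpos]
  · rw [mul_comm f, hfix, Nat.mul_div_cancel_left _ hcpos] at hj
    refine le_trans (Nat.card_le_card_of_injective
      (fun y => (⟨y.1, y.2.1, centralizer_le_normalizer _ ?_⟩ :
        {y : G // IsConj w y ∧ y ∈ normalizer ((P : Subgroup G) : Set G)}))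
      fun a b hab => Subtype.ext (congrArg (fun z => z.1) hab)) hj
    rw [← Order2520.cent_eq hP hx hx1]
    exact mem_centralizer_singleton_iff.2 y.2.2.symm.eq

theorem ne_2160 : Nat.card G ≠ 2160 := by
  intro h
  classical
  have hG : ¬ IsMulCommutative G := Basic.not_comm_of_not_prime (by rw [h]; norm_num)
  haveI : Fact (Nat.Prime 5) := ⟨by norm_num⟩
  haveI : Fact (Nat.Prime 2) := ⟨Nat.prime_two⟩
  obtain ⟨P, n, e, k, hP, hn, hk, hC, hN, hnm, hem, hpk, hO⟩ :=
    data (p := 5) hG (by norm_num) h (by norm_num) (by norm_num)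
  have key : ∀ n ∈ (2160 / 5).divisors, ∀ e ∈ (5 - 1).divisors, Opt 2160 5 n e →
      (n = 36 ∧ e = 2) ∨ (n = 36 ∧ e = 4) ∨ (n = 216 ∧ e = 2) := by decide +kernel
  rcases key n hnm e hem hO with ⟨rfl, rfl⟩ | ⟨rfl, rfl⟩ | ⟨rfl, rfl⟩ <;> norm_num at hk <;> subst hk
  · exact false_of_facts hG 2 (by norm_num) h P hP hn hC hN (by norm_num) (by norm_num) (by decide +kernel)
  · exact false_of_twelve hG h P hP hn hC hN (Or.inl rfl) (by norm_num) (by decide +kernel)
  exact false_of_equation_two hG (m := 135) (a := 4) (by norm_num) h (by norm_num) P hP hC hN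
    (by decide +kernel)

theorem ne_3240 : Nat.card G ≠ 3240 := by
  intro h
  have hG : ¬ IsMulCommutative G := Basic.not_comm_of_not_prime (by rw [h]; norm_num)
  haveI : Fact (Nat.Prime 5) := ⟨by norm_num⟩
  obtain ⟨P, n, e, k, hP, hn, hk, hC, hN, hnm, hem, hpk, hO⟩ :=
    data (p := 5) hG (by norm_num) h (by norm_num) (by norm_num)
  have key : ∀ n ∈ (3240 / 5).divisors, ∀ e ∈ (5 - 1).divisors, Opt 3240 5 n e →
      (n = 36 ∧ e = 2) ∨ (n = 81 ∧ e = 2) ∨ (n = 81 ∧ e = 4) := by decide +kernel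
  rcases key n hnm e hem hO with ⟨rfl, rfl⟩ | ⟨rfl, rfl⟩ | ⟨rfl, rfl⟩ <;> norm_num at hk <;> subst hk
  · exact false_of_twelve hG h P hP hn hC hN (Or.inr rfl) (by norm_num) (by decide +kernel)
  · exact false_of_central hG (a := 3) (by norm_num) h P hP hn hC hN (by norm_num) (by norm_num)
      (by decide +kernel)
  · exact false_of_central hG (a := 3) (by norm_num) h P hP hn hC hN (by norm_num) (by norm_num)
      (by decide +kernel)

theorem ne_3360 : Nat.card G ≠ 3360 := by
  intro h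
  classical
  haveI := Fintype.ofFinite G
  have hG : ¬ IsMulCommutative G := Basic.not_comm_of_not_prime (by rw [h]; norm_num)
  haveI : Fact (Nat.Prime 5) := ⟨by norm_num⟩
  haveI : Fact (Nat.Prime 3) := ⟨by norm_num⟩
  haveI : Fact (Nat.Prime 7) := ⟨by norm_num⟩
  obtain ⟨P, n, e, k, hP, hn, hk, hC, hN, hnm, hem, hpk, hO⟩ :=
    data (p := 5) hG (by norm_num) h (by norm_num) (by norm_num)
  have key : ∀ n ∈ (3360 / 5).divisors, ∀ e ∈ (5 - 1).divisors, Opt 3360 5 n e →
      (n = 21 ∧ e = 2) ∨ (n = 21 ∧ e = 4) ∨ (n = 56 ∧ e = 2) ∨ (n = 56 ∧ e = 4) ∨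
        (n = 336 ∧ e = 2) := by decide +kernel
  rcases key n hnm e hem hO with ⟨rfl, rfl⟩ | ⟨rfl, rfl⟩ | ⟨rfl, rfl⟩ | ⟨rfl, rfl⟩ | ⟨rfl, rfl⟩ <;>
    norm_num at hk <;> subst hk
  · exact false_of_central hG (a := 5) (by norm_num) h P hP hn hC hN (by norm_num) (by norm_num)
      (by decide +kernel)
  · exact false_of_central hG (a := 5) (by norm_num) h P hP hn hC hN (by norm_num) (by norm_num)
      (by decide +kernel)
  · exact false_of_facts hG 3 (by norm_num) h P hP hn hC hN (by norm_num) (by norm_num) (by decide +kernel)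
  · exact false_of_facts hG 3 (by norm_num) h P hP hn hC hN (by norm_num) dvd_rfl (by decide +kernel)
  -- one class of involutions, one of which centralises a Sylow `7`-subgroup
  obtain ⟨t, c, hone, hto, hc, hd, hsol⟩ := equation_two hG (m := 105) (a := 5) (by norm_num) h
    (by norm_num) P hP hC hN
  obtain ⟨Q, n', e', k', hQ, -, hk', hC', -, hnm', hem', -, hO'⟩ :=
    data (p := 7) hG (by norm_num) h (by norm_num) (by norm_num)
  have key' : ∀ n ∈ (3360 / 7).divisors, ∀ e ∈ (7 - 1).divisors, Opt 3360 7 n e →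
      2 ∣ 3360 / 7 / (n * e) := by decide +kernel
  haveI : Fact (Nat.Prime 2) := ⟨Nat.prime_two⟩
  obtain ⟨⟨s, hs⟩, hso⟩ := exists_prime_orderOf_dvd_card'
    (G := centralizer ((Q : Subgroup G) : Set G)) 2 (hC' ▸ (hk' ▸ key' _ hnm' _ hem' hO').mul_left 7)
  rw [Subgroup.orderOf_mk] at hso
  have h7s : 7 ∣ Nat.card (centralizer ({s} : Set G)) := hQ.symm.dvd.trans (card_dvd_of_le fun z hz =>
    mem_centralizer_singleton_iff.2 (mem_centralizer_iff.1 hs z hz))
  have h7c : 7 ∣ c := by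
    rw [hc]
    have e1 := Basic.card_centralizer_mul_card_class t
    have e2 := Basic.card_centralizer_mul_card_class s
    have hcl : Nat.card {y : G // IsConj t y} = Nat.card {y : G // IsConj s y} :=
      Nat.card_congr (Equiv.subtypeEquivRight fun y =>
        ⟨fun hy => (hone s hso).symm.trans hy, fun hy => (hone s hso).trans hy⟩)
    rw [hcl] at e1
    have hpos : 0 < Nat.card {y : G // IsConj s y} := Nat.pos_of_ne_zero fun e0 => by
      rw [e0, mul_zero] at e2
      exact Nat.card_pos.ne e2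
    rwa [Nat.eq_of_mul_eq_mul_right hpos (e1.trans e2.symm)]
  have key2 : ∀ c ∈ (3360 : ℕ).divisors, Sol 3360 5 32 c → ¬ 7 ∣ c := by decide +kernel
  exact key2 c hd hsol h7c

end Cfsg.Agent.SmallSimple.Orders3640
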