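import Cfsg.Agent.Lib.SmallSimple.Orders6232.Tools
import Cfsg.Agent.Lib.SmallSimple.IndexTwo
import Cfsg.Agent.Lib.SmallSimple.EvenPSL
import Cfsg.Agent.Lib.ZStar.Main

/-!
# Tools for the orders between 1093 and 3640

* `false_of_facts`: an element of prime order `r` in `C(P)` contradicts the fixed point count.
* `false_of_isolated`: an involution of `C(P)` central in `N(P)`, which holds a Sylow
  `2`-subgroup, is isolated when it fixes `P` alone.
* `false_of_class_twelve`: commuting elements of orders five and three on twelve conjugates.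
-/

set_option autoImplicit false
set_option linter.style.haveILetI false
set_option linter.unusedSectionVars false

namespace Cfsg.Agent.SmallSimple.Orders3640

open Subgroup MulAction Cfsg.Agent.SmallSimple.Orders6232

universe u

variable {G : Type u} [Group G] [Finite G]

/-- An element of order `r`, prime to `[N(P) : C(P)]`, of `N(P)` lies in `C(P)`. -/
theorem forced {p r k e : ℕ} [Fact p.Prime] [Fact r.Prime] (P : Sylow p G)
    (hP : Nat.card (P : Subgroup G) = p)
    (hC : Nat.card (centralizer ((P : Subgroup G) : Set G)) = p * k)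
    (hN : Nat.card (normalizer ((P : Subgroup G) : Set G)) = p * (k * e)) (hrp : r ≠ p) {w y : G}
    (hwo : orderOf w = r) (h : ¬ r ∣ e) (hy : IsConj w y)
    (hyN : y ∈ normalizer ((P : Subgroup G) : Set G)) :
    y ∈ centralizer ((P : Subgroup G) : Set G) := by
  classical
  set C := centralizer ((P : Subgroup G) : Set G) with hCdef
  set N := normalizer ((P : Subgroup G) : Set G) with hNdef
  by_contra hyC
  haveI : (C.subgroupOf N).Normal := by
    rw [hCdef, hNdef, ← Subgroup.normalizerMonoidHom_ker]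
    exact MonoidHom.normal_ker _
  have hidx : Nat.card (N ⧸ C.subgroupOf N) = e := by
    have h2 := card_mul_index (C.subgroupOf N)
    rw [Nat.card_congr (subgroupOfEquivOfLe (centralizer_le_normalizer _)).toEquiv, hC, hN,
      ← mul_assoc] at h2
    exact Nat.eq_of_mul_eq_mul_left (by rw [← hC]; exact Nat.card_pos) h2
  have hy1 : y ^ r = 1 := pow_conj_eq_one hy (hwo ▸ pow_orderOf_eq_one w)
  have ho : orderOf (QuotientGroup.mk (⟨y, hyN⟩ : N) : N ⧸ C.subgroupOf N) = r := by
    refine orderOf_eq_prime ?_ fun e' => hyC (mem_subgroupOf.1 ((QuotientGroup.eq_one_iff _).1 e'))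
    rw [← QuotientGroup.mk_pow, show (⟨y, hyN⟩ : N) ^ r = 1 from Subtype.ext hy1,
      QuotientGroup.mk_one]
  exact h (hidx ▸ ho ▸ orderOf_dvd_natCard _)

/-- The conjugates in `N(P)` of an element of order `r` in `C(P)` are at most `k - 1` when they
are forced into `C(P)`. -/
theorem conj_count_le {p r k e : ℕ} [Fact p.Prime] [Fact r.Prime] (P : Sylow p G)
    (hP : Nat.card (P : Subgroup G) = p) (hrp : r ≠ p)
    (hC : Nat.card (centralizer ((P : Subgroup G) : Set G)) = p * k)
    (hN : Nat.card (normalizer ((P : Subgroup G) : Set G)) = p * (k * e)) {w : G}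
    (hwo : orderOf w = r)
    (h : 1 + (Nat.card (Sylow p G) - 1) / p < Nat.card {Q : Sylow p G // w • Q = Q} ∨ ¬ r ∣ e) :
    Nat.card {y : G // IsConj w y ∧ y ∈ normalizer ((P : Subgroup G) : Set G)} < k := by
  classical
  set C := centralizer ((P : Subgroup G) : Set G) with hCdef
  set N := normalizer ((P : Subgroup G) : Set G) with hNdef
  have hcop : Nat.Coprime r p := (Nat.coprime_primes Fact.out Fact.out).2 hrp
  have hmem : ∀ y, IsConj w y → y ∈ N → y ∈ C := by
    intro y hy hyN
    rcases h with h | h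
    · exact conj_mem_centralizer P hP h hy hyN
    · exact forced P hP hC hN hrp hwo h hy hyN
  let emb : Option {y : G // IsConj w y ∧ y ∈ N} → {y : G // y ∈ C ∧ y ^ r = 1} := fun o =>
    match o with
    | none => ⟨1, one_mem _, one_pow _⟩
    | some y => ⟨y.1, hmem y.1 y.2.1 y.2.2, pow_conj_eq_one y.2.1 (hwo ▸ pow_orderOf_eq_one w)⟩
  have hne1 : ∀ y : {y : G // IsConj w y ∧ y ∈ N}, y.1 ≠ 1 := fun y he => by
    have := y.2.1
    rw [he, isConj_one_left] at this
    rw [this, orderOf_one] at hwo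
    exact (Fact.out : r.Prime).ne_one hwo.symm
  have hinj : Function.Injective emb := by
    intro a b hab
    have hv := congrArg Subtype.val hab
    match a, b with
    | none, none => rfl
    | none, some y => exact absurd hv.symm (hne1 y)
    | some y, none => exact absurd hv (hne1 y)
    | some y, some z => exact congrArg some (Subtype.ext hv)
  have hle := (Nat.card_le_card_of_injective emb hinj).trans (card_elements_le P hP hC hcop)
  rw [Finite.card_option] at hle
  omega

/-- The restrictions on the number `f` of Sylow subgroups fixed by an element of order `r` in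
`C(P)`, on the order `c` of its centralizer and on the order `i` of the intersection of that
centralizer with `N(P)`, a multiple of `a`. -/
abbrev Conds (N p n e k r a f c i : ℕ) : Prop :=
  f % p = 1 ∧ f % r = n % r ∧ (r = 2 → 4 ∣ n - f) ∧ c ≠ N ∧
    (N / c ≤ 20 → 2 * N ∣ (N / c).factorial) ∧ p + 2 < N / c ∧
    f * (p * (k * e)) % c = 0 ∧ (1 + (n - 1) / p < f ∨ ¬ r ∣ e → f * (p * (k * e)) / c < k) ∧
    a ∣ i ∧ i ∣ c ∧ i ∣ p * (k * e) ∧ c / i % p = 1

/-- No values satisfy `Conds`. -/
abbrev NoConds (N p n e k r a : ℕ) : Prop :=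
  ∀ f ∈ List.range n, ∀ c ∈ N.divisors, ∀ i ∈ (p * (k * e)).divisors, ¬ Conds N p n e k r a f c i

/-- Only `f = 1` satisfies `Conds`. -/
abbrev OnlyOne (N p n e k r a : ℕ) : Prop :=
  ∀ f ∈ List.range n, ∀ c ∈ N.divisors, ∀ i ∈ (p * (k * e)).divisors, Conds N p n e k r a f c i → f = 1

theorem facts [IsSimpleGroup G] (hG : ¬ IsMulCommutative G) {N p n e k r a : ℕ} [Fact p.Prime]
    [Fact r.Prime] (hp : 3 ≤ p) (hcard : Nat.card G = N) (P : Sylow p G)
    (hP : Nat.card (P : Subgroup G) = p) (hn : Nat.card (Sylow p G) = n)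
    (hC : Nat.card (centralizer ((P : Subgroup G) : Set G)) = p * k)
    (hN : Nat.card (normalizer ((P : Subgroup G) : Set G)) = p * (k * e)) (hrp : r ≠ p)
    {w : G} (hw : w ∈ centralizer ((P : Subgroup G) : Set G)) (hwo : orderOf w = r)
    (ha : a ∣ Nat.card ↥(centralizer ({w} : Set G) ⊓ normalizer ((P : Subgroup G) : Set G))) :
    ∃ f c i, f ∈ List.range n ∧ c ∈ N.divisors ∧ i ∈ (p * (k * e)).divisors ∧
      f = Nat.card {Q : Sylow p G // w • Q = Q} ∧ c = Nat.card (centralizer ({w} : Set G)) ∧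
      i = Nat.card ↥(centralizer ({w} : Set G) ⊓ normalizer ((P : Subgroup G) : Set G)) ∧
      Conds N p n e k r a f c i := by
  classical
  have hpG : p ∣ Nat.card G := hP ▸ card_subgroup_dvd_card (P : Subgroup G)
  have hw1 : w ≠ 1 := fun e => by rw [e, orderOf_one] at hwo; exact (Fact.out : r.Prime).ne_one hwo.symm
  haveI : IsCyclic (P : Subgroup G) := isCyclic_of_prime_card hP
  set H := centralizer ({w} : Set G) with hH
  set NP := normalizer ((P : Subgroup G) : Set G) with hNP
  have hlt := fix_lt (p := p) hG hpG hw1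
  have hfix := FixedPoints.card_fixed_mul P w
  rw [← hNP, hN] at hfix
  rw [hn] at hlt
  have hne : H ≠ ⊤ := Orders1092.centralizer_ne_top hG hw1
  have hidx := card_mul_index H
  rw [hcard] at hidx
  have hcpos : 0 < Nat.card H := Nat.card_pos
  have hdiv : N / Nat.card H = H.index := by rw [← hidx, Nat.mul_div_cancel_left _ hcpos]
  have hc0 : N ≠ 0 := hcard ▸ Nat.card_pos.ne'
  have hPH : (P : Subgroup G) ≤ H := fun z hz =>
    mem_centralizer_singleton_iff.2 (mem_centralizer_iff.1 hw z hz)
  refine ⟨_, Nat.card H, Nat.card ↥(H ⊓ NP), List.mem_range.2 hlt,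
    Nat.mem_divisors.2 ⟨hcard ▸ card_subgroup_dvd_card H, hc0⟩,
    Nat.mem_divisors.2 ⟨hN ▸ card_dvd_of_le inf_le_right, by rw [← hN]; exact Nat.card_pos.ne'⟩, rfl, rfl, rfl,
    fix_mod_one P hP hw, hn ▸ fix_mod_prime (α := Sylow p G) hwo, fun h2 => ?_, fun e => ?_,
    fun _ => ?_, ?_, ?_, fun h => ?_, ha, card_dvd_of_le inf_le_left, hN ▸ card_dvd_of_le inf_le_right, ?_⟩
  · subst h2
    rw [← hn]
    exact FixedPoints.four_dvd_moved hG (α := Sylow p G) (by rw [← sq, ← hwo, pow_orderOf_eq_one])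
  · exact hne (eq_top_of_card_eq H (e.trans hcard.symm))
  · rw [hdiv, ← hcard]
    exact Basic.two_mul_card_dvd_factorial hG H hne
  · rw [hdiv]
    by_contra hle
    obtain ⟨x, hx, -, hxo⟩ := Order2520.exists_gen hP
    exact hw1 (Centralize.eq_one_of_index_le hG hp H hne (by omega) hxo
      (mem_centralizer_iff.1 hw x hx) (hwo ▸ (Nat.coprime_primes Fact.out Fact.out).2 hrp))
  · rw [mul_comm, hfix, Nat.mul_mod_right]
  · rw [mul_comm, hfix, Nat.mul_div_cancel_left _ hcpos]
    exact conj_count_le P hP hrp hC hN hwo (hn.symm ▸ h)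
  · have hmul := Order2520.card_inf_mul NP H
    rw [← hmul, Nat.mul_div_cancel_left _ Nat.card_pos]
    exact FixedPoints.relIndex_normalizer_mod P hPH

/-- The order of the intersection of `C(w)` with `N(P)` is a multiple of `p r`. -/
theorem pr_dvd {p r : ℕ} [Fact p.Prime] [Fact r.Prime] (P : Sylow p G)
    (hP : Nat.card (P : Subgroup G) = p) (hrp : r ≠ p) {w : G}
    (hw : w ∈ centralizer ((P : Subgroup G) : Set G)) (hwo : orderOf w = r) :
    p * r ∣ Nat.card ↥(centralizer ({w} : Set G) ⊓ normalizer ((P : Subgroup G) : Set G)) := by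
  refine ((Nat.coprime_primes Fact.out Fact.out).2 hrp).symm.mul_dvd_of_dvd_of_dvd ?_ ?_
  · refine hP.symm.dvd.trans (card_dvd_of_le (le_inf (fun z hz => ?_) le_normalizer))
    exact mem_centralizer_singleton_iff.2 (mem_centralizer_iff.1 hw z hz)
  · have h := card_dvd_of_le (zpowers_le.2 (show w ∈ centralizer ({w} : Set G) ⊓
      normalizer ((P : Subgroup G) : Set G) from
      ⟨mem_centralizer_singleton_iff.2 rfl, centralizer_le_normalizer _ hw⟩))
    rwa [Nat.card_zpowers, hwo] at h

/-- When the conjugates of `w` in `N(P)` lie in `C(P)`, each fixed Sylow subgroup lies in `C(w)`. -/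
theorem fix_le_relIndex {p : ℕ} [Fact p.Prime] (P : Sylow p G) {w : G}
    (hw : w ∈ centralizer ((P : Subgroup G) : Set G))
    (hforce : ∀ y, IsConj w y → y ∈ normalizer ((P : Subgroup G) : Set G) →
      y ∈ centralizer ((P : Subgroup G) : Set G)) :
    Nat.card {Q : Sylow p G // w • Q = Q} ≤
      (normalizer ((P : Subgroup G) : Set G)).relIndex (centralizer ({w} : Set G)) := by
  classical
  set H := centralizer ({w} : Set G) with hH
  have hPH : (P : Subgroup G) ≤ H := fun z hz =>
    mem_centralizer_singleton_iff.2 (mem_centralizer_iff.1 hw z hz)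
  have hQH : ∀ Q : Sylow p G, w • Q = Q → (Q : Subgroup G) ≤ H := by
    intro Q hQ
    obtain ⟨g, rfl⟩ := MulAction.exists_smul_eq G P Q
    have hN : g⁻¹ * w * g ∈ normalizer ((P : Subgroup G) : Set G) := by
      refine Sylow.smul_eq_iff_mem_normalizer.1 ?_
      rw [mul_smul, mul_smul, hQ, inv_smul_smul]
    have hC := hforce _ (isConj_iff.2 ⟨g⁻¹, by group⟩) hN
    intro z hz
    rw [Sylow.coe_subgroup_smul] at hz
    obtain ⟨v, hv, rfl⟩ := hz
    refine mem_centralizer_singleton_iff.2 ?_
    have h := mem_centralizer_iff.1 hC v hv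
    show g * v * g⁻¹ * w = w * (g * v * g⁻¹)
    calc g * v * g⁻¹ * w = g * (v * (g⁻¹ * w * g)) * g⁻¹ := by group
      _ = g * (g⁻¹ * w * g * v) * g⁻¹ := by rw [h]
      _ = w * (g * v * g⁻¹) := by group
  let φ : {Q : Sylow p G // w • Q = Q} → Sylow p H := fun Q => Q.1.subtype (hQH Q.1 Q.2)
  refine (Nat.card_le_card_of_injective φ fun a b hab =>
    Subtype.ext (Sylow.subtype_injective hab)).trans (le_of_eq ?_)
  rw [(P.subtype hPH).card_eq_index_normalizer]
  have e : normalizer ((P.subtype hPH : Sylow p H) : Set H) =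
      (normalizer ((P : Subgroup G) : Set G)).subgroupOf H := by
    change normalizer (((P.subtype hPH : Sylow p H) : Subgroup H) : Set H) = _
    rw [Sylow.coe_subtype]
    exact (subgroupOf_normalizer_eq hPH).symm
  rw [e]
  rfl

/-- An element of prime order `r ∣ k` of `C(P)` gives a contradiction when `NoConds` holds. -/
theorem false_of_facts [IsSimpleGroup G] (hG : ¬ IsMulCommutative G) {N p n e k : ℕ} (r : ℕ)
    [Fact p.Prime] [Fact r.Prime] (hp : 3 ≤ p) (hcard : Nat.card G = N) (P : Sylow p G)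
    (hP : Nat.card (P : Subgroup G) = p) (hn : Nat.card (Sylow p G) = n)
    (hC : Nat.card (centralizer ((P : Subgroup G) : Set G)) = p * k)
    (hN : Nat.card (normalizer ((P : Subgroup G) : Set G)) = p * (k * e)) (hrp : r ≠ p) (hrk : r ∣ k)
    (key : NoConds N p n e k r (p * r)) : False := by
  obtain ⟨⟨w, hw⟩, hwo⟩ := exists_prime_orderOf_dvd_card'
    (G := centralizer ((P : Subgroup G) : Set G)) r (hC ▸ hrk.mul_left p)
  rw [Subgroup.orderOf_mk] at hwo
  obtain ⟨f, c, i, hf, hc, hi, -, -, -, h⟩ :=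
    facts hG hp hcard P hP hn hC hN hrp hw hwo (pr_dvd P hP hrp hw hwo)
  exact key f hf c hc i hi h

/-- An isolated involution contradicts simplicity. -/
theorem false_of_isolated [IsSimpleGroup G] (hG : ¬ IsMulCommutative G) {t : G} (ht : orderOf t = 2)
    (h : ∀ g : G, Commute t (g * t * g⁻¹) → g * t * g⁻¹ = t) : False := by
  have hO : Cfsg.oddCore G = ⊥ := by
    rcases (ZStar.Main.oddCore_normal (G := G)).eq_bot_or_eq_top with h0 | h0
    · exact h0
    · exfalso
      have h1 := InvChar.Core.odd_card_oddCore (G := G)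
      rw [h0, Subgroup.card_top, Nat.odd_iff] at h1
      have h2 : 2 ∣ Nat.card G := ht ▸ orderOf_dvd_natCard t
      omega
  have hc := ZStar.Main.mem_center_of_isolated hO ⟨ht, h⟩
  rw [Basic.center_eq_bot hG, Subgroup.mem_bot] at hc
  rw [hc, orderOf_one] at ht
  norm_num at ht

/-- An involution of `C(P)` that centralizes `N(P)` and fixes `P` alone. -/
theorem false_of_fix_one [IsSimpleGroup G] (hG : ¬ IsMulCommutative G) {p : ℕ} [Fact p.Prime]
    (P : Sylow p G) {t : G} (hto : orderOf t = 2)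
    (hNt : normalizer ((P : Subgroup G) : Set G) ≤ centralizer ({t} : Set G))
    (hf : Nat.card {Q : Sylow p G // t • Q = Q} = 1) : False := by
  refine false_of_isolated hG hto fun g hg => ?_
  have htP : t • P = P := Sylow.smul_eq_iff_mem_normalizer.2
    (centralizer_le_normalizer _ (mem_centralizer_iff.2 fun z hz =>
      mem_centralizer_singleton_iff.1 (hNt (le_normalizer hz))))
  have huniq : ∀ Q : Sylow p G, t • Q = Q → Q = P := fun Q hQ => congrArg Subtype.val
    (@Subsingleton.elim _ (Nat.card_eq_one_iff_unique.1 hf).1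
      (⟨Q, hQ⟩ : {Q : Sylow p G // t • Q = Q}) ⟨P, htP⟩)
  have hvP : (g * t * g⁻¹) • P = P := huniq _ (by
    rw [← mul_smul, hg.eq, mul_smul, htP])
  have hgP : g⁻¹ • P = P := huniq _ (by
    calc t • g⁻¹ • P = g⁻¹ • ((g * t * g⁻¹) • P) := by
          rw [← mul_smul, ← mul_smul]; congr 1; group
      _ = g⁻¹ • P := by rw [hvP])
  have hg' : g⁻¹ ∈ centralizer ({t} : Set G) := hNt (Sylow.smul_eq_iff_mem_normalizer.1 hgP)
  have h2 := mem_centralizer_singleton_iff.1 (inv_mem hg')
  rw [inv_inv] at h2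
  rw [h2, mul_inv_cancel_right]

/-- `N(P)` holds a Sylow `2`-subgroup and `C(P)` has even order: some involution of `C(P)` is
central in `N(P)`, which is then excluded when only `f = 1` is possible. -/
theorem false_of_central [IsSimpleGroup G] (hG : ¬ IsMulCommutative G) {N p n e k a : ℕ}
    [Fact p.Prime] (hp : 3 ≤ p) (hcard : Nat.card G = N) (P : Sylow p G)
    (hP : Nat.card (P : Subgroup G) = p) (hn : Nat.card (Sylow p G) = n)
    (hC : Nat.card (centralizer ((P : Subgroup G) : Set G)) = p * k)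
    (hN : Nat.card (normalizer ((P : Subgroup G) : Set G)) = p * (k * e))
    (hke : k * e = 2 ^ a) (hk : 2 ∣ k)
    (key : OnlyOne N p n e k 2 (p * (k * e))) : False := by
  classical
  haveI : Fact (Nat.Prime 2) := ⟨Nat.prime_two⟩
  have hpp : p.Prime := Fact.out
  haveI : IsCyclic (P : Subgroup G) := isCyclic_of_prime_card hP
  set C := centralizer ((P : Subgroup G) : Set G) with hCdef
  set NP := normalizer ((P : Subgroup G) : Set G) with hNdef
  have hcop : Nat.Coprime p (2 ^ a) :=
    Nat.Coprime.pow_right a ((Nat.coprime_primes hpp Nat.prime_two).2 (by omega))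
  obtain ⟨T₀⟩ : Nonempty (Sylow 2 NP) := inferInstance
  have hT₀ : Nat.card (T₀ : Subgroup NP) = 2 ^ a :=
    Basic.card_sylow_eq_pow (a := a) (m := p) (by rw [hN, hke]; ring)
      (fun h => by have := (Nat.prime_dvd_prime_iff_eq Nat.prime_two hpp).1 h; omega) T₀
  set T : Subgroup G := (T₀ : Subgroup NP).map NP.subtype with hTdef
  have hT : Nat.card T = 2 ^ a := by rw [hTdef, card_map_of_injective NP.subtype_injective, hT₀]
  have hTN : T ≤ NP := map_subtype_le _
  have hTp : IsPGroup 2 T := IsPGroup.of_card hT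
  -- `C(P)` meets `T` non-trivially
  set R := C ⊓ T with hRdef
  have hR2 : 2 ∣ Nat.card R := by
    have hRp : IsPGroup 2 R := hTp.to_le inf_le_right
    obtain ⟨b, hb⟩ := IsPGroup.iff_card.1 hRp
    rcases b with _ | b
    · exfalso
      have h1 : C ⊓ T = ⊥ := Subgroup.eq_bot_of_card_eq _ (hb.trans (pow_zero 2))
      haveI : (C.subgroupOf NP).Normal := by
        rw [hCdef, hNdef, ← Subgroup.normalizerMonoidHom_ker]
        exact MonoidHom.normal_ker _
      have hd : C.relIndex T ∣ C.relIndex NP := by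
        rw [← relIndex_subgroupOf hTN]
        exact relIndex_dvd_index_of_normal _ _
      have hT2 := Order2520.card_inf_mul C T
      rw [inf_comm, h1, card_bot, one_mul, hT] at hT2
      have he : C.relIndex NP = e := by
        have h2 := relIndex_mul_relIndex ⊥ C NP bot_le (centralizer_le_normalizer _)
        rw [relIndex_bot_left, relIndex_bot_left, hC, hN, ← mul_assoc] at h2
        exact Nat.eq_of_mul_eq_mul_left (hC ▸ Nat.card_pos) h2
      rw [he, hT2] at hd
      have he0 : 0 < e := Nat.pos_of_ne_zero fun h => by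
        rw [h, mul_zero] at hke
        exact absurd hke (pow_pos two_pos a).ne
      have h3 := Nat.le_of_dvd he0 hd
      have : 2 * e ≤ k * e := Nat.mul_le_mul_right _ (Nat.le_of_dvd (Nat.pos_of_ne_zero fun h => by
        rw [h, zero_mul] at hke
        exact absurd hke (pow_pos two_pos a).ne) hk)
      omega
    · rw [hb, pow_succ]; exact dvd_mul_left _ _
  have hRn : ∀ u ∈ T, ∀ z ∈ R, u * z * u⁻¹ ∈ R := fun u hu z hz => by
    refine ⟨mem_centralizer_iff.2 fun y hy => ?_, T.mul_mem (T.mul_mem hu hz.2) (inv_mem hu)⟩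
    have hy' : u⁻¹ * y * u ∈ (P : Subgroup G) := (mem_normalizer_iff''.1 (hTN hu) y).1 hy
    have h := mem_centralizer_iff.1 hz.1 _ hy'
    calc y * (u * z * u⁻¹) = u * (u⁻¹ * y * u * z) * u⁻¹ := by group
      _ = u * (z * (u⁻¹ * y * u)) * u⁻¹ := by rw [h]
      _ = u * z * u⁻¹ * y := by group
  letI : MulAction T R :=
    { smul := fun u z => ⟨(u : G) * z * (u : G)⁻¹, hRn u u.2 z z.2⟩
      one_smul := fun z => Subtype.ext (by
        show ((1 : T) : G) * z * ((1 : T) : G)⁻¹ = z
        simp)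
      mul_smul := fun u v z => Subtype.ext (by
        show ((u * v : T) : G) * z * ((u * v : T) : G)⁻¹ =
          (u : G) * ((v : G) * z * (v : G)⁻¹) * (u : G)⁻¹
        rw [Subgroup.coe_mul]; group) }
  obtain ⟨z, hz, hz1⟩ := hTp.exists_fixed_point_of_prime_dvd_card_of_fixed_point R hR2
    (a := 1) (fun u => Subtype.ext (by
      show (u : G) * ((1 : R) : G) * (u : G)⁻¹ = ((1 : R) : G)
      simp))
  have hz1' : (z : G) ≠ 1 := fun e' => hz1 (Subtype.ext e').symm
  have hzC : ∀ u ∈ T, Commute u (z : G) := fun u hu =>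
    mul_inv_eq_iff_eq_mul.1 (congrArg Subtype.val (hz ⟨u, hu⟩))
  obtain ⟨b, hb⟩ := IsPGroup.iff_orderOf.1 hTp ⟨(z : G), z.2.2⟩
  rw [Subgroup.orderOf_mk] at hb
  have h2z : 2 ∣ orderOf (z : G) := by
    rcases b with _ | b
    · exact absurd (orderOf_eq_one_iff.1 (by simpa using hb)) hz1'
    · rw [hb, pow_succ]; exact dvd_mul_left _ _
  set t := (z : G) ^ (orderOf (z : G) / 2)
  have hto : orderOf t = 2 := orderOf_pow_orderOf_div (orderOf_pos _).ne' h2z
  have htC : t ∈ C := pow_mem z.2.1 _
  have hNt : NP ≤ centralizer ({t} : Set G) := by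
    have hsup : (P : Subgroup G) ⊔ T = NP := by
      refine eq_of_le_of_card_ge (sup_le le_normalizer hTN) ?_
      rw [hN, hke]
      exact Nat.le_of_dvd Nat.card_pos (hcop.mul_dvd_of_dvd_of_dvd
        (hP.symm.dvd.trans (card_dvd_of_le le_sup_left)) (hT.symm.dvd.trans (card_dvd_of_le le_sup_right)))
    rw [← hsup]
    exact sup_le (fun y hy => mem_centralizer_singleton_iff.2 (mem_centralizer_iff.1 htC y hy))
      fun u hu => mem_centralizer_singleton_iff.2 ((hzC u hu).pow_right _).eq
  obtain ⟨f, c, i, hf, hc, hi, hfe, -, -, h⟩ := facts hG hp hcard P hP hn hC hN (r := 2) (a := p * (k * e))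
    (by omega) htC hto (by rw [inf_eq_right.2 hNt, hN])
  exact false_of_fix_one hG P hto hNt (hfe ▸ key f hf c hc i hi h)

/-- Elements of orders `5` and `3` commuting: `w` cannot have twelve conjugates of which at most
two commute with `x`. -/
theorem false_of_class_twelve [IsSimpleGroup G] (hG : ¬ IsMulCommutative G) {x w : G}
    (hx : orderOf x = 5) (hw : orderOf w = 3) (hxw : Commute x w)
    (h12 : Nat.card {y : G // IsConj w y} = 12)
    (h2 : Nat.card {y : G // IsConj w y ∧ Commute x y} ≤ 2) : False := by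
  classical
  haveI : Fact (Nat.Prime 5) := ⟨by norm_num⟩
  haveI : Fact (Nat.Prime 3) := ⟨Nat.prime_three⟩
  letI : MulAction G {y : G // IsConj w y} :=
    { smul := fun g y => ⟨g * y * g⁻¹, y.2.trans (isConj_iff.2 ⟨g, rfl⟩)⟩
      one_smul := fun y => Subtype.ext (by show (1 : G) * y * (1 : G)⁻¹ = y; simp)
      mul_smul := fun g h y => Subtype.ext (by
        show g * h * y * (g * h)⁻¹ = g * (h * y * h⁻¹) * g⁻¹
        group) }
  set F : Set {y : G // IsConj w y} := {y | x • y = y} with hFdef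
  set W : Set {y : G // IsConj w y} := {y | w • y = y} with hWdef
  have hsm : ∀ g : G, ∀ y : {y : G // IsConj w y}, g • y = y ↔ Commute g (y : G) := fun g y =>
    ⟨fun h => mul_inv_eq_iff_eq_mul.1 (congrArg Subtype.val h),
      fun h => Subtype.ext (mul_inv_eq_iff_eq_mul.2 h.eq)⟩
  have hwW : (⟨w, IsConj.refl w⟩ : {y : G // IsConj w y}) ∈ W := (hsm _ _).2 (Commute.refl w)
  have hwF : (⟨w, IsConj.refl w⟩ : {y : G // IsConj w y}) ∈ F := (hsm _ _).2 hxw
  have hF2 : Nat.card F ≤ 2 := le_trans
    (Nat.card_le_card_of_injective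
      (fun y => (⟨y.1.1, y.1.2, (hsm _ _).1 y.2⟩ : {y : G // IsConj w y ∧ Commute x y}))
      fun a b hab => Subtype.ext (Subtype.ext (congrArg (fun z => z.1) hab))) h2
  have hF5 : Nat.card F % 5 = 12 % 5 := by
    have := Order2520.fixed_mod_univ (α := {y : G // IsConj w y}) (p := 5) (x := x)
      (hx ▸ pow_orderOf_eq_one x)
    rwa [h12] at this
  have hI : Nat.card {y : {y : G // IsConj w y} // y ∈ F ∧ w • y = y} = 2 := by
    have h3 := Order2520.fixed_mod (p := 3) (x := w) (hw ▸ pow_orderOf_eq_one w) F fun y hy => by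
      show x • (w • y) = w • y
      rw [← mul_smul, hxw.eq, mul_smul, show x • y = y from hy]
    have hle : Nat.card {y : {y : G // IsConj w y} // y ∈ F ∧ w • y = y} ≤ Nat.card F :=
      Nat.card_le_card_of_injective (fun y => ⟨y.1, y.2.1⟩)
        fun a b hab => Subtype.ext (congrArg (fun z => z.1) hab)
    omega
  have hW5 := Order2520.fixed_mod (p := 5) (x := x) (hx ▸ pow_orderOf_eq_one x) W fun y hy => by
    show w • (x • y) = x • y
    rw [← mul_smul, ← hxw.eq, mul_smul, show w • y = y from hy]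
  rw [show Nat.card {y : {y : G // IsConj w y} // y ∈ W ∧ x • y = y} = 2 from
    (Nat.card_congr (Equiv.subtypeEquivRight fun y => and_comm)).trans hI] at hW5
  have hW3 : Nat.card W % 3 = 12 % 3 := by
    have := Order2520.fixed_mod_univ (α := {y : G // IsConj w y}) (p := 3) (x := w)
      (hw ▸ pow_orderOf_eq_one w)
    rwa [h12] at this
  have hWle : Nat.card W ≤ 12 := h12 ▸ Nat.card_le_card_of_injective _ Subtype.val_injective
  have hW12 : Nat.card W = 12 := by omega
  have hall : ∀ y : {y : G // IsConj w y}, w • y = y := fun y => by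
    obtain ⟨y', hy'⟩ := ((Nat.bijective_iff_injective_and_card (Subtype.val : W → _)).2
      ⟨Subtype.val_injective, hW12.trans h12.symm⟩).2 y
    exact hy' ▸ y'.2
  -- the conjugates commute pairwise, so `w` is central
  have hcl : ∀ g h : G, Commute (g * w * g⁻¹) (h * w * h⁻¹) := fun g h => by
    have h1 : Commute w ((g⁻¹ * h) * w * (g⁻¹ * h)⁻¹) :=
      (hsm _ _).1 (hall ⟨_, isConj_iff.2 ⟨g⁻¹ * h, rfl⟩⟩)
    have h2 := (Commute.conj_iff g).2 h1
    rwa [show g * ((g⁻¹ * h) * w * (g⁻¹ * h)⁻¹) * g⁻¹ = h * w * h⁻¹ by group] at h2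
  set S := Subgroup.normalClosure ({w} : Set G) with hSdef
  have hw1 : w ≠ 1 := fun e => by rw [e, orderOf_one] at hw; norm_num at hw
  rcases (Subgroup.normalClosure_normal (s := ({w} : Set G))).eq_bot_or_eq_top with h | h
  · exact hw1 (Subgroup.mem_bot.1 (h ▸ Subgroup.subset_normalClosure (Set.mem_singleton w)))
  · have hle : S ≤ centralizer ({w} : Set G) := by
      rw [hSdef, Subgroup.normalClosure, Subgroup.closure_le]
      intro y hy
      obtain ⟨z, hz, hzy⟩ := Group.mem_conjugatesOfSet_iff.1 hy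
      rw [Set.mem_singleton_iff] at hz
      subst hz
      obtain ⟨g, rfl⟩ := isConj_iff.1 hzy
      have := hcl g 1
      simp only [one_mul, inv_one, mul_one] at this
      exact mem_centralizer_singleton_iff.2 this.eq
    exact Orders1092.centralizer_ne_top hG hw1 (top_le_iff.1 (h ▸ hle))

/-- The arithmetic of `IndexTwo.equation`, with `|C(t)| = c` a multiple of `tw`. -/
abbrev Sol (N q tw c : ℕ) : Prop :=
  tw ∣ c ∧ ∃ x ∈ List.range 80, 1 < x ∧ x ∣ N ∧ (x + 1) ∣ N ∧
    ∃ d ∈ List.range (2 * x + 1), N * (d * d) = q * (c * c) * (x * (x + 1))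

/-- With a self-centralising `P` of index two in its normaliser, there is one class of involutions,
whose centralisers hold Sylow `2`-subgroups. -/
theorem equation_two [IsSimpleGroup G] (hG : ¬ IsMulCommutative G) {N p a m : ℕ} [Fact p.Prime]
    (hp : p ≠ 2) (hN : Nat.card G = N) (hm : N = 2 ^ a * m ∧ ¬ 2 ∣ m ∧ 0 < a ∧ N < 6400)
    (P : Sylow p G) (hP : Nat.card (P : Subgroup G) = p)
    (hC : Nat.card (centralizer ((P : Subgroup G) : Set G)) = p * 1)
    (hNP : Nat.card (normalizer ((P : Subgroup G) : Set G)) = p * (1 * 2)) :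
    ∃ (t : G) (c : ℕ), (∀ u : G, orderOf u = 2 → IsConj t u) ∧ orderOf t = 2 ∧
      c = Nat.card (centralizer ({t} : Set G)) ∧ c ∈ N.divisors ∧ Sol N p (2 ^ a) c := by
  classical
  haveI := Fintype.ofFinite G
  rw [mul_one] at hC
  rw [one_mul] at hNP
  obtain ⟨hm, hm2, ha, hN'⟩ := hm
  obtain ⟨-, hidx⟩ := Orders.selfCent_of_prime_index hG P hP Nat.prime_two hNP
  obtain ⟨t, b, x, hto, hone, hx1, hax, hxd, hxd1, heq⟩ := IndexTwo.equation hG (q := p) hp
    (EvenPSL.selfCent_of_card P hP hC) hP hidx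
  have hN0 : N ≠ 0 := hN ▸ Nat.card_pos.ne'
  refine ⟨t, _, hone, hto, rfl, Nat.mem_divisors.2 ⟨hN ▸ card_subgroup_dvd_card _, hN0⟩, ?_, ?_⟩
  · -- a central involution of a Sylow `2`-subgroup is conjugate to `t`
    haveI : Fact (Nat.Prime 2) := ⟨Nat.prime_two⟩
    obtain ⟨T⟩ : Nonempty (Sylow 2 G) := inferInstance
    have hT : Nat.card (T : Subgroup G) = 2 ^ a := Basic.card_sylow_eq_pow (hN.trans hm) hm2 T
    haveI : Nontrivial (T : Subgroup G) :=
      Finite.one_lt_card_iff_nontrivial.1 (hT ▸ Nat.one_lt_two_pow ha.ne')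
    haveI := T.isPGroup'.center_nontrivial
    obtain ⟨j, hjc⟩ := IsPGroup.iff_card.1 (T.isPGroup'.to_subgroup (center (T : Subgroup G)))
    have hj : 0 < j := Nat.pos_of_ne_zero fun e0 => by
      have h1 := Finite.one_lt_card (α := center (T : Subgroup G))
      rw [hjc, e0, pow_zero] at h1
      exact lt_irrefl _ h1
    obtain ⟨⟨⟨s, hsT⟩, hsZ⟩, hso⟩ := exists_prime_orderOf_dvd_card' (G := center (T : Subgroup G)) 2
      (hjc ▸ dvd_pow_self 2 hj.ne')
    rw [Subgroup.orderOf_mk, Subgroup.orderOf_mk] at hso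
    have hle : (T : Subgroup G) ≤ centralizer ({s} : Set G) := fun u hu =>
      mem_centralizer_singleton_iff.2 (congrArg Subtype.val (mem_center_iff.1 hsZ ⟨u, hu⟩))
    have e1 := Basic.card_centralizer_mul_card_class t
    have e2 := Basic.card_centralizer_mul_card_class s
    have hcl : Nat.card {y : G // IsConj t y} = Nat.card {y : G // IsConj s y} :=
      Nat.card_congr (Equiv.subtypeEquivRight fun y =>
        ⟨fun hy => (hone s hso).symm.trans hy, fun hy => (hone s hso).trans hy⟩)
    rw [hcl] at e1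
    have hpos : 0 < Nat.card {y : G // IsConj s y} := Nat.pos_of_ne_zero fun e0 => by
      rw [e0, mul_zero] at e2
      exact Nat.card_pos.ne e2
    rw [Nat.eq_of_mul_eq_mul_right hpos (e1.trans e2.symm), ← hT]
    exact card_dvd_of_le hle
  have hax2 := abs_le.1 hax
  obtain ⟨d, hd'⟩ : ∃ d : ℕ, (b - x) ^ 2 = (d : ℤ) ^ 2 ∧ d ≤ 2 * x :=
    ⟨(b - x).natAbs, (Int.natAbs_sq _).symm, by omega⟩
  rw [hd'.1, hN] at heq
  rw [hN] at hxd hxd1
  generalize Nat.card (centralizer ({t} : Set G)) = c at heq ⊢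
  have hxx : x * (x + 1) ∣ N :=
    (Nat.Coprime.mul_dvd_of_dvd_of_dvd (by simp [Nat.coprime_self_add_right]) hxd hxd1)
  have hx80 : x < 80 := by
    have := Nat.le_of_dvd (by omega) hxx
    nlinarith
  refine ⟨x, List.mem_range.2 hx80, hx1, hxd, hxd1, d, List.mem_range.2 (by omega), ?_⟩
  have : (N : ℤ) * ((d : ℤ) * d) = p * ((c : ℤ) * c) * (x * (x + 1)) := by
    rw [sq, sq] at heq; exact heq
  exact_mod_cast this

theorem false_of_equation_two [IsSimpleGroup G] (hG : ¬ IsMulCommutative G) {N p a m : ℕ}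
    [Fact p.Prime] (hp : p ≠ 2) (hN : Nat.card G = N)
    (hm : N = 2 ^ a * m ∧ ¬ 2 ∣ m ∧ 0 < a ∧ N < 6400)
    (P : Sylow p G) (hP : Nat.card (P : Subgroup G) = p)
    (hC : Nat.card (centralizer ((P : Subgroup G) : Set G)) = p * 1)
    (hNP : Nat.card (normalizer ((P : Subgroup G) : Set G)) = p * (1 * 2))
    (key : ∀ c ∈ N.divisors, ¬ Sol N p (2 ^ a) c) : False := by
  obtain ⟨t, c, -, -, -, hc, hs⟩ := equation_two hG hp hN hm P hP hC hNP
  exact key c hc hs

end Cfsg.Agent.SmallSimple.Orders3640
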