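import Cfsg.Agent.Lib.SmallSimple.Orders6232.E
import Cfsg.Agent.Lib.SmallSimple.Orders3640.Tools

/-!
# Orders divisible by twenty-five: 1800, 2100, 2400, 2700 and 3600
-/

set_option autoImplicit false
set_option linter.style.haveILetI false
set_option maxRecDepth 100000

namespace Cfsg.Agent.SmallSimple.Orders3640

open Subgroup MulAction Cfsg.Agent.SmallSimple.Orders6232

variable {G : Type*} [Group G] [Finite G] [IsSimpleGroup G]

/-- The values left by `five_data`. -/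
abbrev FiveLeft (N m n m' r s : ℕ) : Prop :=
  s % 5 = 1 ∧ 1 < s ∧ s < n ∧ 1 < m / m' / r ∧
    (m / m' / r ≤ 20 → 2 * N ∣ (m / m' / r).factorial) ∧ (m' % 4 = 2 → s ∣ m' / 2)

theorem five_cases (hG : ¬ IsMulCommutative G) [Fact (Nat.Prime 5)] {N m : ℕ} (hcard : Nat.card G = N)
    (hm : N = 25 * m) (h5 : ¬ 5 ∣ m)
    (key : ∀ n ∈ m.divisors, n % 5 = 1 → 1 < n → 2 * N ∣ n.factorial → n % 25 ≠ 1) :
    ∃ (P : Sylow 5 G) (d : G) (m' r s n : ℕ), d ∈ (P : Subgroup G) ∧ orderOf d = 5 ∧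
      Nat.card (centralizer ({d} : Set G)) = 25 * m' ∧
      (centralizer ({d} : Set G)).relIndex (normalizer ((zpowers d : Subgroup G) : Set G)) = r ∧
      Nat.card {Q : Sylow 5 G // d • Q = Q} = s ∧ Nat.card (Sylow 5 G) = n ∧ n ∈ m.divisors ∧
      n % 5 = 1 ∧ 1 < n ∧ 2 * N ∣ n.factorial ∧ m' ∈ m.divisors ∧ r ∈ (m / m').divisors ∧
      s ∈ m'.divisors ∧ FiveLeft N m n m' r s := by
  have hm0 : m ≠ 0 := fun e => h5 (e ▸ dvd_zero 5)
  obtain ⟨hd, hmod, h1, hf⟩ := Basic.sylow_count (p := 5) hG (hcard ▸ hm ▸ ⟨5 * m, by ring⟩) (a := 2)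
    (m := m) (by rw [hcard, hm]; norm_num) h5
  rw [hcard] at hf
  have hnm : Nat.card (Sylow 5 G) ∈ m.divisors := Nat.mem_divisors.2 ⟨hd, hm0⟩
  obtain ⟨P, d, m', r, i, hdP, hdo, hC, hrel, hmri, hi1, hfine, hsd, hs5, hs1, hslt, hodd⟩ :=
    five_data hG (m := m) (hcard.trans hm) h5 (key _ hnm hmod h1 hf)
  rw [hcard] at hfine
  have hm'd : m' ∈ m.divisors := Nat.mem_divisors.2 ⟨⟨r * i, by rw [← hmri]; ring⟩, hm0⟩
  have hm'0 : 0 < m' := Nat.pos_of_mem_divisors hm'd
  have hdiv : m / m' = r * i := by rw [← hmri, mul_assoc, Nat.mul_div_cancel_left _ hm'0]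
  have hri0 : r * i ≠ 0 := fun e => hm0 (by rw [← hmri, mul_assoc, e, mul_zero])
  have hrd : r ∈ (m / m').divisors := Nat.mem_divisors.2 ⟨hdiv ▸ dvd_mul_right r i, hdiv ▸ hri0⟩
  have hi : m / m' / r = i := by
    rw [hdiv, Nat.mul_div_cancel_left _ (Nat.pos_of_mem_divisors hrd)]
  refine ⟨P, d, m', r, _, _, hdP, hdo, hC, hrel, rfl, rfl, hnm, hmod, h1, hf, hm'd, hrd,
    Nat.mem_divisors.2 ⟨hsd, hm'0.ne'⟩, hs5, hs1, hslt, hi ▸ hi1, hi ▸ hfine, hodd⟩

theorem false_of_five (hG : ¬ IsMulCommutative G) {N m : ℕ} (hcard : Nat.card G = N)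
    (hm : N = 25 * m ∧ ¬ 5 ∣ m)
    (key : ∀ n ∈ m.divisors, n % 5 = 1 → 1 < n → 2 * N ∣ n.factorial → n % 25 ≠ 1 ∧
      ∀ m' ∈ m.divisors, ∀ r ∈ (m / m').divisors, ∀ s ∈ m'.divisors, ¬ FiveLeft N m n m' r s) :
    False := by
  haveI : Fact (Nat.Prime 5) := ⟨by norm_num⟩
  obtain ⟨-, -, m', r, s, n, -, -, -, -, -, -, hn, h1, h2, h3, hm', hr, hs, hl⟩ :=
    five_cases hG hcard hm.1 hm.2 fun n a b c d => (key n a b c d).1
  exact (key n hn h1 h2 h3).2 m' hm' r hr s hs hl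

theorem ne_1800 : Nat.card G ≠ 1800 := fun h =>
  false_of_five (Basic.not_comm_of_not_prime (by rw [h]; norm_num)) h (m := 72) (by norm_num)
    (by decide +kernel)

theorem ne_2100 : Nat.card G ≠ 2100 := fun h =>
  false_of_five (Basic.not_comm_of_not_prime (by rw [h]; norm_num)) h (m := 84) (by norm_num)
    (by decide +kernel)

theorem ne_2400 : Nat.card G ≠ 2400 := fun h =>
  false_of_five (Basic.not_comm_of_not_prime (by rw [h]; norm_num)) h (m := 96) (by norm_num)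
    (by decide +kernel)

theorem ne_2700 : Nat.card G ≠ 2700 := fun h =>
  false_of_five (Basic.not_comm_of_not_prime (by rw [h]; norm_num)) h (m := 108) (by norm_num)
    (by decide +kernel)

theorem ne_3600 : Nat.card G ≠ 3600 := by
  intro h
  classical
  have hG : ¬ IsMulCommutative G := Basic.not_comm_of_not_prime (by rw [h]; norm_num)
  haveI : Fact (Nat.Prime 5) := ⟨by norm_num⟩
  obtain ⟨P, d, m', r, s, n, hdP, hdo, hC, hrel, hs, hn, hnm, h1, h2, h3, hm', hr, hs', hl⟩ :=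
    five_cases hG h (m := 144) (by norm_num) (by norm_num) (by decide +kernel)
  have key : ∀ n ∈ (144 : ℕ).divisors, n % 5 = 1 → 1 < n → 2 * 3600 ∣ n.factorial →
      ∀ m' ∈ (144 : ℕ).divisors, ∀ r ∈ (144 / m').divisors, ∀ s ∈ m'.divisors,
        FiveLeft 3600 144 n m' r s → m' = 12 ∧ r = 1 ∧ s = 6 ∧ (n = 16 ∨ n = 36) := by decide +kernel
  obtain ⟨rfl, rfl, rfl, hn'⟩ := key n hnm h1 h2 h3 m' hm' r hr s hs' hl
  set N := normalizer ((P : Subgroup G) : Set G) with hNdef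
  have hfix := FixedPoints.card_fixed_mul P d
  rw [hs, hC, card_normalizer_sylow P hn h] at hfix
  rcases hn' with rfl | rfl
  · omega
  have hj : Nat.card {y : G // IsConj d y ∧ y ∈ N} = 2 := by rw [hNdef]; omega
  haveI hab : IsMulCommutative (P : Subgroup G) := IsPGroup.isMulCommutative_of_card_eq_prime_sq
    (p := 5) (by rw [Basic.card_sylow_eq_pow (a := 2) (m := 144) (by rw [h]; norm_num) (by norm_num) P])
  -- the two conjugates of `d` in `P` have a product central in `N(P)`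
  obtain ⟨⟨e, hde, heN⟩, hne⟩ : ∃ y : {y : G // IsConj d y ∧ y ∈ N},
      y ≠ ⟨d, IsConj.refl d, le_normalizer hdP⟩ := by
    haveI : Nontrivial {y : G // IsConj d y ∧ y ∈ N} :=
      Finite.one_lt_card_iff_nontrivial.1 (by rw [hj]; norm_num)
    exact exists_ne _
  have hed : e ≠ d := fun he => hne (Subtype.ext he)
  have heo : orderOf e = 5 := by
    obtain ⟨g, rfl⟩ := isConj_iff.1 hde
    exact (orderOf_injective (MulAut.conj g).toMonoidHom (MulAut.conj g).injective d).trans hdo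
  have heP : e ∈ (P : Subgroup G) := mem_of_fixed (k := 1) (heo.trans (pow_one 5).symm)
    (Sylow.smul_eq_iff_mem_normalizer.2 heN)
  have hor : ∀ y, IsConj d y → y ∈ N → y = d ∨ y = e := by
    intro y hy hyN
    by_contra hcon
    push Not at hcon
    haveI : Fintype {y : G // IsConj d y ∧ y ∈ N} := Fintype.ofFinite _
    have h3 : 2 < Fintype.card {y : G // IsConj d y ∧ y ∈ N} := Fintype.two_lt_card_iff.2
      ⟨⟨d, IsConj.refl d, le_normalizer hdP⟩, ⟨e, hde, heN⟩, ⟨y, hy, hyN⟩,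
        fun h' => hed (congrArg Subtype.val h').symm,
        fun h' => hcon.1 (congrArg Subtype.val h').symm,
        fun h' => hcon.2 (congrArg Subtype.val h').symm⟩
    rw [← Nat.card_eq_fintype_card, hj] at h3
    omega
  have hde' : Commute d e := congrArg Subtype.val (mul_comm' (⟨d, hdP⟩ : (P : Subgroup G)) ⟨e, heP⟩)
  have hz1 : d * e = 1 := Centralize.eq_one_of_central_in_normalizer hG P (mul_mem hdP heP)
    fun g hg => by
      have hgd := hor (g * d * g⁻¹) (isConj_iff.2 ⟨g, rfl⟩)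
        (N.mul_mem (N.mul_mem hg (le_normalizer hdP)) (inv_mem hg))
      have hge := hor (g * e * g⁻¹) (hde.trans (isConj_iff.2 ⟨g, rfl⟩))
        (N.mul_mem (N.mul_mem hg heN) (inv_mem hg))
      have hdiff : g * d * g⁻¹ ≠ g * e * g⁻¹ := fun he =>
        hed (mul_left_cancel (mul_right_cancel he)).symm
      refine mul_inv_eq_iff_eq_mul.1 ?_
      rw [show g * (d * e) * g⁻¹ = g * d * g⁻¹ * (g * e * g⁻¹) by group]
      rcases hgd with e1 | e1 <;> rcases hge with e2 | e2 <;> rw [e1, e2] at hdiff ⊢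
      · exact absurd rfl hdiff
      · exact hde'.eq.symm
      · exact absurd rfl hdiff
  -- so the other conjugate is the inverse of `d`
  have hei : e = d⁻¹ := eq_inv_of_mul_eq_one_right hz1
  subst hei
  obtain ⟨g, hg⟩ := isConj_iff.1 hde
  have hgN : g ∈ normalizer ((zpowers d : Subgroup G) : Set G) := by
    have hmap : (zpowers d).map (MulAut.conj g).toMonoidHom = zpowers d := by
      rw [MonoidHom.map_zpowers, show (MulAut.conj g).toMonoidHom d = d⁻¹ from hg, zpowers_inv]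
    refine mem_normalizer_iff.2 fun z => ⟨fun hz => hmap ▸ ⟨z, hz, rfl⟩, fun hz => ?_⟩
    rw [← hmap] at hz
    obtain ⟨z', hz', he⟩ := hz
    exact (MulAut.conj g).injective he ▸ hz'
  have hgC := mem_centralizer_singleton_iff.1 (relIndex_eq_one.1 hrel hgN)
  exact hed (hg.symm.trans (mul_inv_eq_iff_eq_mul.2 hgC))

end Cfsg.Agent.SmallSimple.Orders3640
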