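import Cfsg.Agent.Lib.SmallSimple.Orders6232.D
import Cfsg.Agent.Lib.SmallSimple.Orders6232.DegreeTwo
import Cfsg.Agent.Lib.SmallSimple.Orders3640.Tools
import Cfsg.Agent.Lib.M11Order.Orbit

/-!
# The order 1512

The Sylow `7`-subgroup is self-centralising with normaliser of order `42`; an involution has
centraliser of order `24`, which the characters of the principal `7`-block do not allow.
-/

set_option autoImplicit false
set_option linter.style.haveILetI false
set_option maxRecDepth 100000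

namespace Cfsg.Agent.SmallSimple.Orders3640

open Subgroup MulAction Cfsg.Agent.SmallSimple.Orders6232

variable {G : Type*} [Group G] [Finite G] [IsSimpleGroup G]

/-- The possible `(f, χ 1)`. -/
def items : List (ℤ × ℕ) := [(-2, 12), (-1, 6), (-1, 27), (1, 8), (1, 36), (2, 9)]

theorem items_spec : ∀ f ∈ [(-2 : ℤ), -1, 1, 2], ∀ d ∈ List.range 39, 1 < d → d ∣ 1512 → d ≠ 2 →
    (7 : ℤ) ∣ (d : ℤ) - f → (f, d) ∈ items := by decide +kernel

/-- Number, sum and sum of squares of the values over the characters of the type `k`. -/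
noncomputable def Tally (s : Multiset (ℤ × ℕ × ℤ)) (k : ℤ × ℕ) : ℕ × ℤ × ℤ :=
  (Multiset.card (s.filter fun w => (w.1, w.2.1) = k),
    ((s.filter fun w => (w.1, w.2.1) = k).map fun w => w.2.2).sum,
    ((s.filter fun w => (w.1, w.2.1) = k).map fun w => w.2.2 ^ 2).sum)

theorem tally_small (s : Multiset (ℤ × ℕ × ℤ)) (k : ℤ × ℕ) :
    ((Tally s k).1 = 0 → (Tally s k).2.1 = 0 ∧ (Tally s k).2.2 = 0) ∧
    ((Tally s k).1 = 1 → (Tally s k).2.2 = (Tally s k).2.1 ^ 2) ∧ 0 ≤ (Tally s k).2.2 := by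
  refine ⟨fun h => ?_, fun h => ?_, Multiset.sum_nonneg fun a ha => ?_⟩
  · simp only [Tally] at h ⊢
    rw [Multiset.card_eq_zero.1 h]
    exact ⟨rfl, rfl⟩
  · simp only [Tally] at h ⊢
    obtain ⟨w, hw⟩ := Multiset.card_eq_one.1 h
    rw [hw]
    simp
  · obtain ⟨w, -, rfl⟩ := Multiset.mem_map.1 ha
    exact sq_nonneg _

/-- A sum over `s` through the tallies. -/
theorem sum_tally (s : Multiset (ℤ × ℕ × ℤ)) (hs : ∀ w ∈ s, (w.1, w.2.1) ∈ items)
    (α β γ : ℤ × ℕ → ℤ) :
    (s.map fun w => α (w.1, w.2.1) + β (w.1, w.2.1) * w.2.2 + γ (w.1, w.2.1) * w.2.2 ^ 2).sum =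
      (items.map fun k => α k * (Tally s k).1 + β k * (Tally s k).2.1 + γ k * (Tally s k).2.2).sum := by
  induction s using Multiset.induction_on with
  | empty => simp [items, Tally]
  | cons a s ih =>
    have hs' := fun w hw => hs w (Multiset.mem_cons_of_mem hw)
    rw [Multiset.map_cons, Multiset.sum_cons, ih hs']
    obtain ⟨f, d, v⟩ := a
    have ha := hs _ (Multiset.mem_cons_self _ _)
    simp only [items, List.mem_cons, List.not_mem_nil, or_false, Prod.mk.injEq] at ha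
    rcases ha with ⟨rfl, rfl⟩ | ⟨rfl, rfl⟩ | ⟨rfl, rfl⟩ | ⟨rfl, rfl⟩ | ⟨rfl, rfl⟩ | ⟨rfl, rfl⟩ <;>
      simp [items, Tally, Multiset.filter_cons] <;> ring

set_option synthInstance.maxSize 4096 in
set_option synthInstance.maxHeartbeats 400000 in
/-- The possible numbers of characters of each type. -/
theorem keyTally : ∀ a ∈ List.range 2, ∀ b ∈ List.range 7, ∀ c ∈ List.range 3, ∀ d ∈ List.range 7,
    ∀ e ∈ List.range 2, ∀ g ∈ List.range 2, (4 * a + b + c + d + e + 4 * g : ℤ) = 6 →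
    (1 + (-24 * a - 6 * b - 27 * c + 8 * d + 36 * e + 18 * g) : ℤ) = 0 →
    (1 + (144 * a + 36 * b + 729 * c + 64 * d + 1296 * e + 81 * g) : ℤ) ≤ 1512 →
    (a = 0 ∧ b = 1 ∧ c = 1 ∧ d = 4 ∧ e = 0 ∧ g = 0) ∨
      (a = 0 ∧ b = 0 ∧ c = 1 ∧ d = 1 ∧ e = 0 ∧ g = 1) := by decide +kernel

theorem ne_1512 : Nat.card G ≠ 1512 := by
  intro h
  classical
  haveI := Fintype.ofFinite G
  have hG : ¬ IsMulCommutative G := Basic.not_comm_of_not_prime (by rw [h]; norm_num)
  haveI : Fact (Nat.Prime 7) := ⟨by norm_num⟩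
  haveI : Fact (Nat.Prime 3) := ⟨by norm_num⟩
  haveI : Fact (Nat.Prime 2) := ⟨Nat.prime_two⟩
  obtain ⟨P, n, e, k, hP, hn, hk, hC, hN, hnm, hem, hpk, hO⟩ :=
    data (p := 7) hG (by norm_num) h (by norm_num) (by norm_num)
  have key : ∀ n ∈ (1512 / 7).divisors, ∀ e ∈ (7 - 1).divisors, Opt 1512 7 n e →
      n = 36 ∧ (e = 2 ∨ e = 3 ∨ e = 6) := by decide +kernel
  obtain ⟨rfl, rfl | rfl | rfl⟩ := key n hnm e hem hO <;> norm_num at hk <;> subst hk
  · exact Centralize.false_of_two_sylows hG (by norm_num) (q := 3) (a := 1) (by norm_num) h hn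
      (by norm_num) P hP hC (by norm_num) (by norm_num) (by decide +kernel)
  · exact Centralize.false_of_two_sylows hG (by norm_num) (q := 2) (a := 1) (by norm_num) h hn
      (by norm_num) P hP hC (by norm_num) (by norm_num) (by decide +kernel)
  rw [mul_one] at hC
  rw [one_mul] at hN
  set N := normalizer ((P : Subgroup G) : Set G) with hNdef
  have hSC := EvenPSL.selfCent_of_card P hP hC
  have hrel : (P : Subgroup G).relIndex N = 6 := by
    have h2 := relIndex_mul_relIndex ⊥ (P : Subgroup G) N bot_le le_normalizer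
    rw [relIndex_bot_left, relIndex_bot_left, hP, hN] at h2
    omega
  obtain ⟨⟨t, ht⟩, hto⟩ := exists_prime_orderOf_dvd_card' (G := N) 2 (hN.symm ▸ by norm_num)
  rw [Subgroup.orderOf_mk] at hto
  haveI : IsCyclic (P : Subgroup G) := isCyclic_of_prime_card hP
  -- every involution of `N(P)` inverts `P`
  have hout : ∀ u ∈ N, orderOf u = 2 → u ∉ centralizer ((P : Subgroup G) : Set G) := fun u _ huo hm => by
    have := orderOf_dvd_natCard (⟨u, hm⟩ : centralizer ((P : Subgroup G) : Set G))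
    rw [Subgroup.orderOf_mk, huo, hC] at this
    norm_num at this
  have hinvert : ∀ u ∈ N, orderOf u = 2 → ∀ y ∈ (P : Subgroup G), u * y * u⁻¹ = y⁻¹ := by
    intro u hu huo y hy
    rcases eq_or_ne y 1 with rfl | hy1
    · simp
    have hgen := Centralize.sylow_le_iff_mem hy hy1 hP
    have hyo : orderOf y = 7 := by
      have := Nat.card_zpowers y
      rw [hgen, hP] at this
      exact this.symm
    refine inverts huo hyo (hgen ▸ (mem_normalizer_iff.1 hu y).1 hy) fun hc => hout u hu huo ?_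
    rw [← Order2520.cent_eq hP hy hy1]
    exact mem_centralizer_singleton_iff.2 hc
  have hoc : ∀ {a b : G}, IsConj a b → orderOf b = orderOf a := fun h => conj_orderOf h
  have h7 : Nat.card {u : G // IsConj t u ∧ u ∈ N} = 7 := by
    refine le_antisymm ?_ ?_
    · rw [← hP]
      refine Nat.card_le_card_of_injective (fun u => (⟨t⁻¹ * u.1, ?_⟩ : (P : Subgroup G)))
        fun a b hab => Subtype.ext (mul_left_cancel (congrArg Subtype.val hab))
      have hmem : t⁻¹ * u.1 ∈ centralizer ((P : Subgroup G) : Set G) := mem_centralizer_iff.2 fun y hy => by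
        have h1 := hinvert u.1 u.2.2 ((hoc u.2.1).trans hto) y hy
        have h2 := hinvert t ht hto y hy
        have h3 : u.1 * y * u.1⁻¹ = t * y * t⁻¹ := h1.trans h2.symm
        calc y * (t⁻¹ * u.1) = t⁻¹ * (t * y * t⁻¹) * u.1 := by group
          _ = t⁻¹ * (u.1 * y * u.1⁻¹) * u.1 := by rw [h3]
          _ = t⁻¹ * u.1 * y := by group
      have heq : (P : Subgroup G) = centralizer ((P : Subgroup G) : Set G) :=
        eq_of_le_of_card_ge (le_centralizer _) (by rw [hC, hP])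
      rw [heq]
      exact hmem
    · conv_lhs => rw [← hP]
      refine Nat.card_le_card_of_injective (fun z : (P : Subgroup G) => (⟨(z : G) * t * (z : G)⁻¹,
        isConj_iff.2 ⟨z, rfl⟩, N.mul_mem (N.mul_mem (le_normalizer z.2) ht)
          (inv_mem (le_normalizer z.2))⟩ : {u : G // IsConj t u ∧ u ∈ N})) fun a b hab => ?_
      have h2 := congrArg Subtype.val hab
      change (a : G) * t * (a : G)⁻¹ = (b : G) * t * (b : G)⁻¹ at h2
      by_contra hne
      have hne' : (b : G)⁻¹ * a ≠ 1 := fun e => hne (Subtype.ext (inv_mul_eq_one.1 e).symm)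
      refine hout t ht hto ?_
      rw [← Order2520.cent_eq hP (mul_mem (inv_mem b.2) a.2) hne']
      refine mem_centralizer_singleton_iff.2 ?_
      calc t * ((b : G)⁻¹ * a) = (b : G)⁻¹ * ((b : G) * t * (b : G)⁻¹) * a := by group
        _ = (b : G)⁻¹ * ((a : G) * t * (a : G)⁻¹) * a := by rw [h2]
        _ = (b : G)⁻¹ * a * t := by group
  have hc24 : Nat.card (centralizer ({t} : Set G)) = 24 := by
    have hfix := FixedPoints.card_fixed_mul P t
    rw [h7, ← hNdef, hN] at hfix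
    have hle := fix_le P hP ht (hout t ht hto)
    have h4 := FixedPoints.four_dvd_moved hG (α := Sylow 7 G) (show t * t = 1 by
      rw [← pow_two, ← hto, pow_orderOf_eq_one])
    have hpos : 0 < Nat.card (centralizer ({t} : Set G)) := Nat.card_pos
    rw [hn] at hle h4
    revert hfix hle h4 hpos
    generalize Nat.card (centralizer ({t} : Set G)) = c
    generalize Nat.card {Q : Sylow 7 G // t • Q = Q} = f
    intro hfix hle h4 hpos
    omega
  have hinv : ∀ y ∈ (P : Subgroup G), y ≠ 1 →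
      Nat.card {u : G // IsConj t u ∧ u * y * u⁻¹ = y⁻¹} = 7 := by
    intro y hy hy1
    rw [← h7]
    refine Nat.card_congr (Equiv.subtypeEquivRight fun u => and_congr_right fun hu =>
      ⟨fun he => ?_, fun hm => hinvert u hm ((hoc hu).trans hto) y hy⟩)
    refine Sylow.smul_eq_iff_mem_normalizer.1 (Order2520.eq_of_fixed hP (inv_mem hy) (inv_ne_one.2 hy1) ?_)
    rw [← he, mul_smul, mul_smul, inv_smul_smul, Sylow.smul_eq_iff_mem_normalizer.2 (le_normalizer hy)]
  obtain ⟨s, hsq, hdeg, hdsq, hval, hcl, hnorm, hchar, hall⟩ := M11Order.Orbit.data hG hSC hrel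
    (by rw [hP]) (hP.symm ▸ by decide) hto hinv
  rw [h] at hdsq hcl
  rw [hc24] at hcl hnorm
  have hnn : ∀ (g : ℤ × ℕ × ℤ → ℤ), (∀ w, 0 ≤ g w) → ∀ w ∈ s, g w ≤ (s.map g).sum := by
    intro g hg w hw
    obtain ⟨s', rfl⟩ := Multiset.exists_cons_of_mem hw
    rw [Multiset.map_cons, Multiset.sum_cons]
    have : 0 ≤ (s'.map g).sum := Multiset.sum_nonneg fun a ha => by
      obtain ⟨b, -, rfl⟩ := Multiset.mem_map.1 ha
      exact hg b
    omega
  have hdsq' : 1 + (s.map fun w => (w.2.1 : ℤ) ^ 2).sum ≤ 1512 := by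
    have : ((1 + (s.map fun w => w.2.1 ^ 2).sum : ℕ) : ℤ) ≤ ((1512 : ℕ) : ℤ) := by exact_mod_cast hdsq
    push_cast [Multiset.map_map] at this
    simpa [Function.comp_def] using this
  have hmem : ∀ w ∈ s, (w.1, w.2.1) ∈ items := by
    intro w hw
    obtain ⟨hw0, hw1, hwd, hwc, -⟩ := hall w hw
    rw [h] at hwd
    rw [hP] at hwc
    have h1 := hnn (fun w => w.1 ^ 2) (fun w => sq_nonneg _) w hw
    rw [hsq] at h1
    push_cast at h1
    have h2 := hnn (fun w => (w.2.1 : ℤ) ^ 2) (fun w => sq_nonneg _) w hw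
    have hb1 : w.1 ≤ 2 := by nlinarith
    have hb2 : -2 ≤ w.1 := by nlinarith
    have hd : w.2.1 < 39 := by
      by_contra hbig
      have : (39 : ℤ) ≤ w.2.1 := by exact_mod_cast not_lt.1 hbig
      nlinarith
    refine items_spec w.1 (by simp; omega) w.2.1 (List.mem_range.2 hd) hw1 hwd (fun e2 => ?_) (by simpa using hwc)
    obtain ⟨χ, -, hχ⟩ := hchar w hw
    exact no_degree_two hG (h ▸ by norm_num) χ (by rw [hχ, e2]; norm_num)
  have e1 := sum_tally s hmem (fun k => k.1 ^ 2) (fun _ => 0) (fun _ => 0)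
  have e2 := sum_tally s hmem (fun k => k.1 * (k.2 : ℤ)) (fun _ => 0) (fun _ => 0)
  have e3 := sum_tally s hmem (fun k => (k.2 : ℤ) ^ 2) (fun _ => 0) (fun _ => 0)
  have e4 := sum_tally s hmem (fun _ => 0) (fun k => k.1) (fun _ => 0)
  have e5 := sum_tally s hmem (fun _ => 0) (fun _ => 0) (fun _ => 1)
  have e6 := sum_tally s hmem (fun _ => 0) (fun _ => 0) (fun k => k.1 * (216 / k.2 : ℕ))
  simp only [zero_mul, add_zero, zero_add, one_mul] at e1 e2 e3 e4 e5 e6
  -- the class equation times `216`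
  have hcl' : (s.map fun w => w.1 * ((216 / w.2.1 : ℕ) : ℤ) * w.2.2 ^ 2).sum = 360 := by
    have hterm : (s.map fun w => ((w.1 * ((216 / w.2.1 : ℕ) : ℤ) * w.2.2 ^ 2 : ℤ) : ℚ)).sum =
        216 * (s.map fun w => (w.1 : ℚ) * (w.2.2 : ℚ) ^ 2 / (w.2.1 : ℚ)).sum := by
      rw [← Multiset.sum_map_mul_left]
      refine congrArg Multiset.sum (Multiset.map_congr rfl fun w hw => ?_)
      have hd : w.2.1 ∣ 216 := by
        have := hmem w hw
        simp only [items, List.mem_cons, List.not_mem_nil, or_false, Prod.mk.injEq] at this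
        rcases this with h | h | h | h | h | h <;> rw [h.2] <;> norm_num
      obtain ⟨hw0, hw1, -⟩ := hall w hw
      rw [Int.cast_mul, Int.cast_mul, Int.cast_natCast, Int.cast_pow,
        Nat.cast_div hd (Nat.cast_ne_zero.2 (by omega : w.2.1 ≠ 0) : (w.2.1 : ℚ) ≠ 0)]
      push_cast
      ring
    have hq : (((s.map fun w => w.1 * ((216 / w.2.1 : ℕ) : ℤ) * w.2.2 ^ 2).sum : ℤ) : ℚ) =
        ((360 : ℤ) : ℚ) := by
      rw [show ∀ z : ℤ, ((z : ℤ) : ℚ) = Int.castRingHom ℚ z from fun _ => rfl, map_multiset_sum,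
        Multiset.map_map]
      simp only [Function.comp_def, eq_intCast]
      rw [hterm]
      push_cast at hcl ⊢
      linear_combination -216 * hcl
    exact_mod_cast hq
  rw [e1] at hsq
  rw [e2] at hdeg
  rw [e3] at hdsq'
  rw [e4] at hval
  rw [e5] at hnorm
  rw [e6] at hcl'
  simp only [items, List.map_cons, List.map_nil, List.sum_cons, List.sum_nil, add_zero] at hsq hdeg hdsq' hval hnorm hcl'
  norm_num at hsq hdeg hdsq' hval hnorm hcl'
  obtain ⟨za, oa, pa⟩ := tally_small s (-2, 12)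
  obtain ⟨zb, ob, pb⟩ := tally_small s (-1, 6)
  obtain ⟨zc, oc, pc⟩ := tally_small s (-1, 27)
  obtain ⟨zd, od, pd⟩ := tally_small s (1, 8)
  obtain ⟨ze, oe, pe⟩ := tally_small s (1, 36)
  obtain ⟨zg, og, pg⟩ := tally_small s (2, 9)
  generalize Tally s (-2, 12) = A at *
  generalize Tally s (-1, 6) = B at *
  generalize Tally s (-1, 27) = C at *
  generalize Tally s (1, 8) = D at *
  generalize Tally s (1, 36) = E at *
  generalize Tally s (2, 9) = F at *
  obtain ⟨a, Sa, Qa⟩ := A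
  obtain ⟨b, Sb, Qb⟩ := B
  obtain ⟨c, Sc, Qc⟩ := C
  obtain ⟨d, Sd, Qd⟩ := D
  obtain ⟨e, Se, Qe⟩ := E
  obtain ⟨g, Sg, Qg⟩ := F
  simp only at *
  rcases keyTally a (List.mem_range.2 (by omega)) b (List.mem_range.2 (by omega)) c
      (List.mem_range.2 (by omega)) d (List.mem_range.2 (by omega)) e (List.mem_range.2 (by omega))
      g (List.mem_range.2 (by omega)) (by linarith) (by linarith) (by linarith) with
    ⟨rfl, rfl, rfl, rfl, rfl, rfl⟩ | ⟨rfl, rfl, rfl, rfl, rfl, rfl⟩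
  · obtain ⟨rfl, rfl⟩ := za rfl
    obtain ⟨rfl, rfl⟩ := ze rfl
    obtain ⟨rfl, rfl⟩ := zg rfl
    rw [ob rfl, oc rfl] at hcl' hnorm
    have hb : Sb ≤ 4 ∧ -4 ≤ Sb := ⟨by nlinarith, by nlinarith⟩
    have hc : Sc ≤ 4 ∧ -4 ≤ Sc := ⟨by nlinarith, by nlinarith⟩
    obtain ⟨hb1, hb2⟩ := hb
    obtain ⟨hc1, hc2⟩ := hc
    interval_cases Sb <;> interval_cases Sc <;> omega
  · obtain ⟨rfl, rfl⟩ := za rfl
    obtain ⟨rfl, rfl⟩ := zb rfl
    obtain ⟨rfl, rfl⟩ := ze rfl
    rw [oc rfl, od rfl, og rfl] at hcl' hnorm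
    have hc : Sc ≤ 4 ∧ -4 ≤ Sc := ⟨by nlinarith, by nlinarith⟩
    have hd : Sd ≤ 4 ∧ -4 ≤ Sd := ⟨by nlinarith, by nlinarith⟩
    obtain ⟨hc1, hc2⟩ := hc
    obtain ⟨hd1, hd2⟩ := hd
    have hg : Sg ≤ 4 ∧ -4 ≤ Sg := ⟨by nlinarith, by nlinarith⟩
    obtain ⟨hg1, hg2⟩ := hg
    interval_cases Sc <;> interval_cases Sd <;> first | omega | (interval_cases Sg <;> omega)

end Cfsg.Agent.SmallSimple.Orders3640
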