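import Cfsg.Agent.Lib.SmallSimple.Orders6232.E
import Cfsg.Agent.Lib.SmallSimple.Orders6232.DegreeTwo
import Cfsg.Agent.Lib.SmallSimple.Orders3640.Tools
import Cfsg.Agent.Lib.PrimeBlock.OrdersFive

/-!
# The orders 2880 and 3120
-/

set_option autoImplicit false
set_option linter.style.haveILetI false
set_option maxRecDepth 100000

namespace Cfsg.Agent.SmallSimple.Orders3640

open Subgroup MulAction Cfsg.Agent.SmallSimple.Orders6232

variable {G : Type*} [Group G] [Finite G] [IsSimpleGroup G]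

theorem single_of_sq_sum_one {s : Multiset (ℤ × ℕ)} (h0 : ∀ v ∈ s, v.1 ≠ 0)
    (h : (s.map fun v => v.1 ^ 2).sum = 1) : ∃ v, s = {v} ∧ (v.1 = 1 ∨ v.1 = -1) := by
  have hlen : Multiset.card s ≤ 1 := by
    have h2 : Multiset.card (s.map fun v => v.1 ^ 2) • (1 : ℤ) ≤ (s.map fun v => v.1 ^ 2).sum :=
      Multiset.card_nsmul_le_sum fun x hx => by
        obtain ⟨v, hv, rfl⟩ := Multiset.mem_map.1 hx
        have h3 := sq_pos_of_ne_zero (h0 v hv)
        omega
    rw [h, Multiset.card_map, nsmul_eq_mul, mul_one] at h2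
    exact_mod_cast h2
  rcases Nat.le_one_iff_eq_zero_or_eq_one.1 hlen with h1 | h1
  · rw [Multiset.card_eq_zero.1 h1] at h
    simp at h
  · obtain ⟨v, rfl⟩ := Multiset.card_eq_one.1 h1
    refine ⟨v, rfl, ?_⟩
    rw [Multiset.map_singleton, Multiset.sum_singleton] at h
    exact sq_eq_one_iff.1 h

theorem cand_2880 : PrimeBlock.OrdersFive.Cand 2880 [-4, 6, -9, 16, -24, 36] := by decide +kernel

theorem ne_2880 : Nat.card G ≠ 2880 := by
  intro hN
  classical
  haveI : Fact (Nat.Prime 5) := ⟨by norm_num⟩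
  have hG : ¬ IsMulCommutative G := Basic.not_comm_of_not_prime (by rw [hN]; norm_num)
  obtain ⟨P, D, k, ht, hts, he, hk, hprod, hnd, hnm, hn1, hnf⟩ :=
    PrimeBlock.OrdersFive.setup hG hN (m := 576) (by norm_num) (by norm_num)
  have hn : Nat.card (Sylow 5 G) ∈ [6, 16, 36, 96, 576] := by
    have : ∀ n ∈ Finset.range 577, n ∣ 576 → n % 5 = 1 → 1 < n → n ∈ [6, 16, 36, 96, 576] := by
      decide +kernel
    exact this _ (Finset.mem_range.2 (Nat.lt_succ_of_le (Nat.le_of_dvd (by norm_num) hnd))) hnd hnm hn1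
  simp only [List.mem_cons, List.not_mem_nil, or_false] at hn
  obtain ⟨x, hx1, hx⟩ := D.exists_ne_one
  have hC2 : 2 ∣ k → 2 ∣ Nat.card (centralizer ((P : Subgroup G) : Set G)) := fun h => hk ▸ h.mul_left 5
  have h6 : Nat.card (Sylow 5 G) ≠ 6 := fun h => by rw [h] at hnf; norm_num [Nat.factorial] at hnf
  have hfac : (Nat.card G).factorization 3 = 2 := by
    rw [hN]
    exact PrimeBlock.OrdersFive.factorization_eq Nat.prime_three (m := 320) (by norm_num) (by norm_num)
  rcases he with he | he <;> rw [he] at hprod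
  · obtain ⟨χ, θ, hχ, hχne, hθ, hθne, hz, hθd, hθN, hθ1, -⟩ :=
      PrimeBlock.OrdersFive.two_cases hG hN (by norm_num) cand_2880 D ht hts he
    have hχB := (D.mem_block χ).2 (Or.inl hχ)
    simp only [List.mem_cons, List.not_mem_nil, or_false] at hz
    have hsg := D.sgn_eq χ hχ
    by_cases h2 : 2 ∣ k
    · obtain ⟨e4, e6, e9⟩ := PrimeBlock.OrdersFive.deg_excluded hG D (hC2 h2) hχB hχne hsg
        (Int.modEq_iff_dvd.1 (D.deg_X χ hχ)) hx hx1 (D.val_X' hχ hx hx1)
      rcases hz with h | h | h | h | h | h <;> rw [h] at hθd <;>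
        (try (exfalso; rcases hsg with e | e <;> rw [e] at h <;> omega)) <;>
        norm_num at hθd <;> rw [hθd] at hθN <;> norm_num at hθN
    · have hk3 : k = 3 := by
        rcases hn with hn | hn | hn | hn | hn
        · exact absurd hn h6
        all_goals rw [hn] at hprod; omega
      subst hk3
      have h4 : PrimeBlock.deg χ ≠ 4 ∧ PrimeBlock.deg χ ≠ 9 := by
        refine ⟨fun h => ?_, fun h => ?_⟩
        · have := D.card_centralizer hG hχB hχne (by rw [h]; norm_num)
          omega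
        · refine D.not_full (q := 3) Nat.prime_three (by norm_num) (by rw [hk]; norm_num) hχB ?_
          rw [hfac, h]
          norm_num
      rcases hz with h | h | h | h | h | h <;> rw [h] at hθd <;>
        (try (exfalso; have := h4.1; have := h4.2; rcases hsg with e | e <;> rw [e] at h <;> omega)) <;>
        norm_num at hθd <;> rw [hθd] at hθN <;> norm_num at hθN
  · refine PrimeBlock.OrdersFive.false_of_even D ht hts he fun χ hχ hne w hw hm hval => ?_
    have hzL := PrimeBlock.OrdersFive.signed_mem hG hN (by norm_num) cand_2880 hne hw hm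
    simp only [List.mem_cons, List.not_mem_nil, or_false] at hzL
    have hnine : PrimeBlock.deg χ ≠ 9 := by
      intro h9
      rcases hn with hn | hn | hn | hn | hn
      · exact h6 hn
      all_goals rw [hn] at hprod
      · refine D.not_full (q := 3) Nat.prime_three (by norm_num) (by rw [hk]; omega) hχ ?_
        rw [hfac, h9]
        norm_num
      · exact (PrimeBlock.OrdersFive.deg_excluded hG D (hC2 (by omega)) hχ hne hw hm hx hx1
          (hval x hx hx1)).2.2 h9
      all_goals omega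
    rcases hw with rfl | rfl <;> omega

/-- The centraliser of order thirty-nine is self-centralising. -/
theorem false_3120_two (hG : ¬ IsMulCommutative G) (hcard : Nat.card G = 3120)
    [Fact (Nat.Prime 13)] [Fact (Nat.Prime 3)] (P : Sylow 13 G)
    (hP : Nat.card (P : Subgroup G) = 13) (hn : Nat.card (Sylow 13 G) = 40)
    (hC : Nat.card (centralizer ((P : Subgroup G) : Set G)) = 13 * 3)
    (hN : Nat.card (normalizer ((P : Subgroup G) : Set G)) = 13 * (3 * 2)) : False := by
  classical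
  haveI := Fintype.ofFinite G
  set C := centralizer ((P : Subgroup G) : Set G) with hCdef
  set N := normalizer ((P : Subgroup G) : Set G) with hNdef
  obtain ⟨⟨w, hw⟩, hwo⟩ := exists_prime_orderOf_dvd_card' (G := C) 3 (hC ▸ dvd_mul_left _ _)
  rw [Subgroup.orderOf_mk] at hwo
  obtain ⟨f, c, i, hf, hc, hi, hfe, hce, hie, hcond⟩ :=
    facts hG (by norm_num) hcard P hP hn hC hN (by norm_num : 3 ≠ 13) hw hwo
      (pr_dvd P hP (by norm_num) hw hwo)
  have key : ∀ f ∈ List.range 40, ∀ c ∈ (3120 : ℕ).divisors, ∀ i ∈ (13 * (3 * 2)).divisors,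
      Conds 3120 13 40 2 3 3 (13 * 3) f c i → f = 1 := by decide +kernel
  have hf1 : f = 1 := key f hf c hc i hi hcond
  have hwP : w • P = P := Sylow.smul_eq_iff_mem_normalizer.2 (centralizer_le_normalizer _ hw)
  have huniq : ∀ Q : Sylow 13 G, w • Q = Q → Q = P := fun Q hQ => congrArg Subtype.val
    (@Subsingleton.elim _ (Nat.card_eq_one_iff_unique.1 (hfe ▸ hf1)).1
      (⟨Q, hQ⟩ : {Q : Sylow 13 G // w • Q = Q}) ⟨P, hwP⟩)
  -- conjugation of `w` into its powers fixes `P`
  have hfixP : ∀ g : G, g⁻¹ * w * g ∈ zpowers w → g • P = P := fun g hg => by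
    refine huniq _ ?_
    have h1 : (g⁻¹ * w * g) • P = P := by
      obtain ⟨j, hj⟩ := mem_zpowers_iff.1 hg
      rw [← hj]
      exact mem_stabilizer_iff.1 (zpow_mem (mem_stabilizer_iff.2 hwP) j)
    calc w • g • P = g • ((g⁻¹ * w * g) • P) := by rw [← mul_smul, ← mul_smul]; congr 1; group
      _ = g • P := by rw [h1]
  set H := centralizer ({w} : Set G) with hH
  have hHN : H ≤ N := fun g hg => Sylow.smul_eq_iff_mem_normalizer.1 (hfixP g (by
    rw [show g⁻¹ * w * g = w by
      rw [mul_assoc, ← mem_centralizer_singleton_iff.1 hg, inv_mul_cancel_left]]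
    exact mem_zpowers w))
  have hcN : Nat.card H ∈ ({39, 78} : Finset ℕ) := by
    have h1 : Nat.card H ∣ 78 := by
      have := card_dvd_of_le hHN
      rwa [hN] at this
    have h2 : 39 ∣ Nat.card H :=
      ((pr_dvd P hP (by norm_num : 3 ≠ 13) hw hwo).trans (card_dvd_of_le inf_le_left))
    obtain ⟨j, hj⟩ := h2
    have : j ∣ 2 := by
      rw [hj, show (78 : ℕ) = 39 * 2 from rfl] at h1
      exact Nat.dvd_of_mul_dvd_mul_left (by norm_num) h1
    rcases (Nat.dvd_prime Nat.prime_two).1 this with rfl | rfl <;>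
      simp only [Finset.mem_insert, Finset.mem_singleton, hj] <;> norm_num
  simp only [Finset.mem_insert, Finset.mem_singleton] at hcN
  have hWcard : Nat.card (zpowers w) = 3 := by rw [Nat.card_zpowers, hwo]
  obtain ⟨W, hWle⟩ := (IsPGroup.of_card (n := 1) (by rw [hWcard, pow_one]) :
    IsPGroup 3 (zpowers w)).exists_le_sylow
  have hW3 : Nat.card (W : Subgroup G) = 3 := by
    rw [Basic.card_sylow_eq_pow (a := 1) (m := 1040) (by rw [hcard]; norm_num) (by norm_num) W, pow_one]
  have hWeq : zpowers w = (W : Subgroup G) := eq_of_le_of_card_ge hWle (by rw [hW3, hWcard])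
  rcases hcN with h39 | h78
  swap
  · have hNH : H = N := eq_of_le_of_card_ge hHN (by rw [hN, h78])
    haveI : IsMulCommutative (W : Subgroup G) := by rw [← hWeq]; infer_instance
    have hw1 : w = 1 := Centralize.eq_one_of_central_in_normalizer hG W (hWeq ▸ mem_zpowers w)
      fun g hg => by
        have hgP : g • P = P := hfixP g (hWeq ▸ (mem_normalizer_iff''.1 hg w).1 (hWeq ▸ mem_zpowers w))
        refine mem_centralizer_singleton_iff.1 (?_ : g ∈ H)
        rw [hNH]
        exact Sylow.smul_eq_iff_mem_normalizer.1 hgP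
    rw [hw1, orderOf_one] at hwo
    norm_num at hwo
  obtain ⟨x, hx, hx1, hxo⟩ := Order2520.exists_gen hP
  have hxw : Commute x w := mem_centralizer_iff.1 hw x hx
  set g := x * w with hg
  have hgo : orderOf g = 39 := by
    rw [hg, hxw.orderOf_mul_eq_mul_orderOf_of_coprime (by rw [hxo, hwo]; norm_num), hxo, hwo]
  have hPC : (P : Subgroup G) ≤ C := by
    haveI : IsCyclic (P : Subgroup G) := isCyclic_of_prime_card hP
    exact le_centralizer _
  have hgC : zpowers g = C := eq_of_le_of_card_ge (zpowers_le.2 (C.mul_mem (hPC hx) hw))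
    (by rw [Nat.card_zpowers, hgo, hC])
  have hx13 : x ^ 13 = 1 := hxo ▸ pow_orderOf_eq_one x
  have hw3 : w ^ 3 = 1 := hwo ▸ pow_orderOf_eq_one w
  have hCH : C = H := eq_of_le_of_card_ge (fun z hz => by
    obtain ⟨j, rfl⟩ := mem_zpowers_iff.1 (hgC.symm ▸ hz : z ∈ zpowers g)
    refine mem_centralizer_singleton_iff.2 ((Commute.zpow_left ?_ j).eq)
    exact hxw.mul_left (Commute.refl w)) (by rw [hC, h39])
  have hS : Exceptional.SelfCent C := by
    refine ⟨fun e => ?_, fun z hz hz1 => ?_⟩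
    · rw [e, card_bot] at hC
      norm_num at hC
    obtain ⟨j, hj, rfl⟩ : ∃ j < 39, g ^ j = z := by
      have := (mem_zpowers_iff_mem_range_orderOf (x := g) (y := z)).1 (hgC.symm ▸ hz)
      rw [hgo] at this
      obtain ⟨j, hj, hjz⟩ := Finset.mem_image.1 this
      exact ⟨j, Finset.mem_range.1 hj, hjz⟩
    refine le_antisymm (fun y hy => ?_) (fun y hy => ?_)
    · have hyz : Commute y (g ^ j) := mem_centralizer_singleton_iff.1 hy
      rcases eq_or_ne (j % 13) 0 with h0 | h0
      · -- a power of `w`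
        have hzw : g ^ j = w ^ j := by
          rw [hg, hxw.mul_pow, show x ^ j = 1 from orderOf_dvd_iff_pow_eq_one.1
            (hxo ▸ Nat.dvd_of_mod_eq_zero h0), one_mul]
        have hj3 : j % 3 = 1 ∨ j % 3 = 2 := by
          have : j % 3 ≠ 0 := fun e => hz1 (orderOf_dvd_iff_pow_eq_one.1 (by
            rw [hgo]
            exact Nat.Coprime.mul_dvd_of_dvd_of_dvd (by norm_num : Nat.Coprime 13 3)
              (Nat.dvd_of_mod_eq_zero h0) (Nat.dvd_of_mod_eq_zero e)))
          omega
        have hwp : ∃ i, (w ^ j) ^ i = w := by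
          refine ⟨j % 3, ?_⟩
          rw [← pow_mul, ← pow_mod_orderOf, hwo]
          conv_rhs => rw [← pow_one w]
          congr 1
          rcases hj3 with e | e <;> rw [e, Nat.mul_mod, e]
        obtain ⟨i, hi⟩ := hwp
        rw [hCH]
        refine mem_centralizer_singleton_iff.2 ?_
        rw [← hi]
        exact ((hzw ▸ hyz).pow_right i).eq
      · have hmem : (g ^ j) ^ 3 ∈ (P : Subgroup G) := by
          rw [hg, ← pow_mul, hxw.mul_pow, mul_comm j 3, pow_mul w, hw3, one_pow, mul_one]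
          exact pow_mem hx _
        have hne : (g ^ j) ^ 3 ≠ 1 := fun e => by
          rw [← pow_mul] at e
          have h13 := orderOf_dvd_of_pow_eq_one e
          rw [hgo] at h13
          omega
        rw [hCdef, ← Order2520.cent_eq hP hmem hne]
        exact mem_centralizer_singleton_iff.2 (hyz.pow_right 3).eq
    · obtain ⟨i, rfl⟩ := mem_zpowers_iff.1 (hgC.symm ▸ hy : y ∈ zpowers g)
      exact mem_centralizer_singleton_iff.2 ((Commute.refl g).zpow_left i |>.pow_right j).eq
  have hNC : normalizer (C : Set G) = N := by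
    refine le_antisymm (fun g hg => ?_) ?_
    · refine Sylow.smul_eq_iff_mem_normalizer.1 (hfixP g ?_)
      have hmem := (mem_normalizer_iff''.1 hg w).1 hw
      obtain ⟨j, hj⟩ := mem_zpowers_iff.1 (hgC.symm ▸ hmem : _ ∈ zpowers (x * w))
      rw [hxw.mul_zpow] at hj
      have h1 : (g⁻¹ * w * g) ^ 3 = 1 := by
        rw [show g⁻¹ * w * g = g⁻¹ * w * g⁻¹⁻¹ by rw [inv_inv], conj_pow, hw3]
        group
      have hcomm : Commute (x ^ j) (w ^ j) := hxw.zpow_zpow j j
      rw [← hj, hcomm.mul_pow, ← zpow_natCast, ← zpow_natCast, ← zpow_mul, ← zpow_mul] at h1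
      rw [show w ^ (j * ((3 : ℕ) : ℤ)) = 1 from orderOf_dvd_iff_zpow_eq_one.1
        (by rw [hwo]; exact dvd_mul_left _ _), mul_one] at h1
      have h13 : ((13 : ℕ) : ℤ) ∣ j * ((3 : ℕ) : ℤ) := hxo ▸ orderOf_dvd_iff_zpow_eq_one.2 h1
      rw [← hj, show x ^ j = 1 from orderOf_dvd_iff_zpow_eq_one.1 (by rw [hxo]; push_cast at h13 ⊢; omega),
        one_mul]
      exact zpow_mem (mem_zpowers w) j
    · intro g hg
      refine mem_normalizer_iff.2 fun y => ?_
      haveI : (C.subgroupOf N).Normal := by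
        rw [hCdef, hNdef, ← Subgroup.normalizerMonoidHom_ker]
        exact MonoidHom.normal_ker _
      constructor
      · intro hy
        exact mem_subgroupOf.1 (Normal.conj_mem (H := C.subgroupOf N) inferInstance
          ⟨y, centralizer_le_normalizer _ hy⟩ (mem_subgroupOf.2 hy) ⟨g, hg⟩)
      · intro hy
        have := mem_subgroupOf.1 (Normal.conj_mem (H := C.subgroupOf N) inferInstance
          ⟨_, centralizer_le_normalizer _ hy⟩ (mem_subgroupOf.2 hy) ⟨g⁻¹, inv_mem hg⟩)
        simpa [mul_assoc] using this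
  have hrel : C.relIndex (normalizer (C : Set G)) = 2 := by
    have h2 := relIndex_mul_relIndex ⊥ C N bot_le (centralizer_le_normalizer _)
    rw [relIndex_bot_left, relIndex_bot_left, hC, hN] at h2
    rw [hNC]
    omega
  obtain ⟨ε, c, X, s, hε, hX1, hXd, hcong, hsq, hsum, hdsq, hs⟩ :=
    Exceptional.degree_data' hG hS hrel (t := 19) (by rw [hC]) (by norm_num)
  rw [hcard] at hdsq
  rw [hC] at hcong
  push_cast at hcong hsq hsum
  have hX : X ≤ 12 := by
    by_contra hX
    have h13 : 13 ≤ X := by omega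
    have := Nat.pow_le_pow_left h13 2
    norm_num at this
    omega
  have hpos : 0 ≤ (s.map fun v => v.1 ^ 2).sum := Multiset.sum_nonneg fun a ha => by
    obtain ⟨v, -, rfl⟩ := Multiset.mem_map.1 ha
    exact sq_nonneg _
  have hc0 : c = 0 := by nlinarith [sq_nonneg (c + ε), sq_nonneg c]
  subst hc0
  have hs1 : (s.map fun v => v.1 ^ 2).sum = 1 := by
    rcases hε with rfl | rfl <;> omega
  obtain ⟨v, rfl, hv⟩ := single_of_sq_sum_one (fun v hv => (hs v hv).1) hs1
  obtain ⟨-, hd1, -⟩ := hs v (Multiset.mem_singleton_self v)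
  simp only [Multiset.map_singleton, Multiset.sum_singleton] at hsum
  rcases hε with rfl | rfl <;> rcases hv with e | e <;> rw [e] at hsum <;> omega

/-- The signed degrees for the self-centralising Sylow `13`-subgroup. -/
theorem even_3120 : ∀ f ∈ [(-2 : ℤ), -1, 1, 2], ∀ d ∈ List.range 56, 1 < d → d ∣ 3120 → d ≠ 2 →
    (13 : ℤ) ∣ (d : ℤ) - f → (2 : ℤ) ∣ f * d ∧ f * d ≠ 14 := by decide +kernel

theorem ne_3120 : Nat.card G ≠ 3120 := by
  intro h
  classical
  haveI := Fintype.ofFinite G
  have hG : ¬ IsMulCommutative G := Basic.not_comm_of_not_prime (by rw [h]; norm_num)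
  haveI : Fact (Nat.Prime 13) := ⟨by norm_num⟩
  haveI : Fact (Nat.Prime 3) := ⟨by norm_num⟩
  obtain ⟨P, n, e, k, hP, hn, hk, hC, hN, hnm, hem, hpk, hO⟩ :=
    data (p := 13) hG (by norm_num) h (by norm_num) (by norm_num)
  have key : ∀ n ∈ (3120 / 13).divisors, ∀ e ∈ (13 - 1).divisors, Opt 3120 13 n e →
      n = 40 ∧ (e = 2 ∨ e = 6) := by decide +kernel
  obtain ⟨rfl, rfl | rfl⟩ := key n hnm e hem hO <;> norm_num at hk <;> subst hk
  · exact false_3120_two hG h P hP hn hC hN
  have hSC := EvenPSL.selfCent_of_card P hP (by rw [hC, mul_one])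
  have hrel : (P : Subgroup G).relIndex (normalizer ((P : Subgroup G) : Set G)) = 6 := by
    have h2 := relIndex_mul_relIndex ⊥ (P : Subgroup G) (normalizer ((P : Subgroup G) : Set G)) bot_le
      le_normalizer
    rw [relIndex_bot_left, relIndex_bot_left, hP, hN] at h2
    omega
  obtain ⟨ε, c, X, s, hε, hX1, hXd, hcong, hsq, hsum, hdsq, hs⟩ :=
    Exceptional.degree_data' hG hSC hrel (t := 2) (by rw [hP]) le_rfl
  rw [h] at hdsq hXd
  rw [hP] at hcong
  push_cast at hcong hsq hsum
  have hpos : 0 ≤ (s.map fun v => v.1 ^ 2).sum := Multiset.sum_nonneg fun a ha => by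
    obtain ⟨v, -, rfl⟩ := Multiset.mem_map.1 ha
    exact sq_nonneg _
  have hitem : ∀ v ∈ s, (2 : ℤ) ∣ v.1 * v.2 ∧ v.1 * (v.2 : ℤ) ≠ 14 := by
    intro v hv
    obtain ⟨hf0, hd1, hdd, hdc, χ, hχ⟩ := hs v hv
    obtain ⟨s', rfl⟩ := Multiset.exists_cons_of_mem hv
    rw [Multiset.map_cons, Multiset.sum_cons] at hdsq hsq
    have hr : 0 ≤ (s'.map fun v => v.1 ^ 2).sum := Multiset.sum_nonneg fun a ha => by
      obtain ⟨v, -, rfl⟩ := Multiset.mem_map.1 ha
      exact sq_nonneg _
    have hd : v.2 < 56 := by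
      by_contra hbig
      have := Nat.pow_le_pow_left (not_lt.1 hbig) 2
      norm_num at this
      omega
    have hb1 : v.1 ≤ 2 := by nlinarith [sq_nonneg (c + ε), sq_nonneg c]
    have hb2 : -2 ≤ v.1 := by nlinarith [sq_nonneg (c + ε), sq_nonneg c]
    rw [h] at hdd
    rw [hP] at hdc
    refine even_3120 v.1 (by simp; omega) v.2 (List.mem_range.2 hd) hd1 hdd (fun e2 => ?_)
      (by simpa using hdc)
    exact no_degree_two hG (h ▸ by norm_num) χ (by rw [hχ, e2]; norm_num)
  have heven : (2 : ℤ) ∣ (s.map fun v => v.1 * (v.2 : ℤ)).sum := Multiset.dvd_sum fun a ha => by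
    obtain ⟨v, hv, rfl⟩ := Multiset.mem_map.1 ha
    exact (hitem v hv).1
  have hX : X ≤ 39 := by
    by_contra hX
    have h40 : 40 ≤ X := by omega
    have := Nat.pow_le_pow_left h40 2
    norm_num at this
    omega
  have hc : c ≤ 2 ∧ -2 ≤ c := ⟨by nlinarith [sq_nonneg (c + ε)], by nlinarith [sq_nonneg (c + ε)]⟩
  have key : ∀ ε ∈ [(1 : ℤ), -1], ∀ c ∈ [(-2 : ℤ), -1, 0, 1, 2], ∀ X ∈ List.range 40,
      1 < X → X ∣ 3120 → (13 : ℤ) ∣ (X : ℤ) - c + 6 * ε → (c + ε) ^ 2 + c ^ 2 ≤ 6 →
      (2 : ℤ) ∣ 1 + (2 * c + ε) * X → (2 * c + ε) * X = -15 ∧ (c + ε) ^ 2 + c ^ 2 = 5 := by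
    decide +kernel
  obtain ⟨h15, h5⟩ := key ε (by rcases hε with rfl | rfl <;> simp) c (by simp; omega) X
    (List.mem_range.2 (by omega)) hX1 hXd (by simpa using hcong) (by linarith) (by omega)
  obtain ⟨v, rfl, -⟩ := single_of_sq_sum_one (fun v hv => (hs v hv).1) (by linarith)
  have hv14 := (hitem v (Multiset.mem_singleton_self v)).2
  simp only [Multiset.map_singleton, Multiset.sum_singleton] at hsum
  omega

end Cfsg.Agent.SmallSimple.Orders3640
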