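import Cfsg.Agent.Lib.SmallSimple.Sieve3640.Main
import Cfsg.Agent.Lib.SmallSimple.Orders3640.A
import Cfsg.Agent.Lib.SmallSimple.Orders3640.B
import Cfsg.Agent.Lib.SmallSimple.Orders3640.C
import Cfsg.Agent.Lib.SmallSimple.Orders3640.D
import Cfsg.Agent.Lib.SmallSimple.PSqQR
import Cfsg.Agent.Lib.PrimeBlock.ThreePrimes
import Cfsg.Agent.Lib.PSLOrderSpectrum.Main
import Cfsg.Agent.S0997
import Cfsg.Agent.S1016
import Cfsg.Agent.S1017

/-!
# Simple orders between 1093 and 3640

They are `2448`, `2520` and `3420`.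
-/

set_option autoImplicit false
set_option linter.style.haveILetI false

namespace Cfsg.Agent.SmallSimple.Orders3640

universe u

variable {G : Type u} [Group G] [Finite G] [IsSimpleGroup G]

/-- A cofactor `< p - 1` leaves the two orders of `PSL₂`. -/
theorem false_of_cofactor (hG : ¬ IsMulCommutative G) {N : ℕ} (p q b g : ℕ) (hcard : Nat.card G = N)
    (hd : p.Prime ∧ q.Prime ∧ p ≠ q ∧ N = p * q ^ b * g ∧ g < p - 1)
    (h1 : Nat.gcd 2 (p - 1) * N ≠ p * ((p - 1) * (p + 1)))
    (h2 : Nat.gcd 2 (p - 1 - 1) * N ≠ (p - 1) * ((p - 1 - 1) * (p - 1 + 1))) : False := by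
  obtain ⟨hp, hq, hpq, hN, hg⟩ := hd
  have hnc : ¬ IsCyclic G := fun h => hG inferInstance
  rcases S0997.result hnc p q b g hp hq hpq (hcard.trans hN) hg with
    ⟨m, F, iF, iFt, hF, -, ⟨e⟩⟩ | ⟨m, F, iF, iFt, hF, hpm, -, ⟨e⟩⟩
  · have h := PSLOrderSpectrum.card_psl_two (F := F)
    rw [← Nat.card_congr e.toEquiv, hcard, hF] at h
    exact h1 h
  · have h := PSLOrderSpectrum.card_psl_two (F := F)
    rw [← Nat.card_congr e.toEquiv, hcard, hF, show 2 ^ m = p - 1 by omega] at h
    exact h2 h

/-- Orders `p r q ^ b`. -/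
theorem false_of_three (hG : ¬ IsMulCommutative G) (p r q b : ℕ)
    (hd : p.Prime ∧ r.Prime ∧ q.Prime ∧ p ≠ q ∧ r ≠ q ∧ p < r) (hcard : Nat.card G = p * r * q ^ b)
    (hbig : 168 < p * r * q ^ b) : False := by
  obtain ⟨hp, hr, hq, h1, h2, h3⟩ := hd
  rcases PrimeBlock.card_eq_of_lt hG hp hr hq h1 h2 h3 hcard with h | h <;> omega

/-- The non-abelian simple orders between 1093 and 3640. -/
theorem orders (hG : ¬ IsMulCommutative G) (h1 : 1092 < Nat.card G) (h2 : Nat.card G ≤ 3640) :
    Nat.card G = 2448 ∨ Nat.card G = 2520 ∨ Nat.card G = 3420 := by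
  classical
  have hs := Sieve3640.survivor hG h1 h2
  simp only [Sieve3640.survivors, List.mem_cons, List.not_mem_nil, or_false] at hs
  rcases hs with h | h | h | h | h | h | h | h | h | h | h | h | h | h | h | h | h |
    h | h | h | h | h | h | h | h | h | h | h | h | h | h | h | h | h
  · exact (false_of_cofactor hG 17 3 2 8 h (by norm_num) (by norm_num) (by norm_num)).elim
  · exact (false_of_three hG 3 7 2 6 (by norm_num) (h.trans (by norm_num)) (by norm_num)).elim
  · exact (false_of_cofactor hG 13 3 3 4 h (by norm_num) (by norm_num) (by norm_num)).elim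
  · exact absurd h S1016.result
  · exact absurd h ne_1512
  · exact absurd h ne_1560
  · exact absurd h ne_1620
  · exact absurd h ne_1680
  · exact absurd h ne_1716
  · exact absurd (PSqQR.two_primes (p := 2) (q := 3) (a := 6) (b := 3) Nat.prime_two
      Nat.prime_three (h.trans (by norm_num))) hG
  · exact absurd h ne_1800
  · exact absurd h ne_1980
  · exact absurd h S1017.result
  · exact (false_of_three hG 5 13 2 5 (by norm_num) (h.trans (by norm_num)) (by norm_num)).elim
  · exact absurd h ne_2100
  · exact absurd h ne_2160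
  · exact (false_of_cofactor hG 7 3 4 4 h (by norm_num) (by norm_num) (by norm_num)).elim
  · exact absurd h ne_2400
  · exact Or.inl h
  · exact (false_of_three hG 7 11 2 5 (by norm_num) (h.trans (by norm_num)) (by norm_num)).elim
  · exact Or.inr (Or.inl h)
  · exact (false_of_three hG 3 7 2 7 (by norm_num) (h.trans (by norm_num)) (by norm_num)).elim
  · exact absurd h ne_2700
  · exact absurd h ne_2880
  · exact (false_of_three hG 3 31 2 5 (by norm_num) (h.trans (by norm_num)) (by norm_num)).elim
  · exact absurd h ne_3024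
  · exact absurd h ne_3120
  · exact (false_of_cofactor hG 11 2 5 9 h (by norm_num) (by norm_num) (by norm_num)).elim
  · exact absurd h ne_3240
  · exact absurd h ne_3360
  · exact Or.inr (Or.inr h)
  · exact absurd h ne_3432
  · exact (false_of_cofactor hG 41 7 1 12 h (by norm_num) (by norm_num) (by norm_num)).elim
  · exact absurd h ne_3600

end Cfsg.Agent.SmallSimple.Orders3640
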